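import Groth.Agent.Lib.EtPic3.Hilbert90
import Mathlib.RingTheory.TensorProduct.IncludeLeftSubRight
import Mathlib.RingTheory.Ideal.GoingDown
import Mathlib.RingTheory.Spectrum.Prime.Basic
import Mathlib.AlgebraicGeometry.PullbackCarrier

/-!
# Cocycles congruent to one modulo a scalar, locally on the base
-/

set_option autoImplicit false
set_option backward.isDefEq.respectTransparency false
set_option backward.isDefEq.respectTransparency.types false
set_option maxHeartbeats 400000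

universe u

open TensorProduct AlgebraicGeometry CategoryTheory CategoryTheory.Limits

namespace Groth.Agent.SekSuwaTors19

variable {A B : Type u} [CommRing A] [CommRing B] [Algebra A B]

theorem exists_prime_tensor (q Q : PrimeSpectrum B)
    (h : PrimeSpectrum.comap (algebraMap A B) q = PrimeSpectrum.comap (algebraMap A B) Q) :
    ∃ P : Ideal (B ⊗[A] B), P.IsPrime ∧ (∀ x, x ⊗ₜ[A] (1 : B) ∈ P ↔ x ∈ q.asIdeal) ∧
      ∀ x, (1 : B) ⊗ₜ[A] x ∈ P ↔ x ∈ Q.asIdeal := by
  let π := Spec.map (CommRingCat.ofHom (algebraMap A B))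
  obtain ⟨z, hz1, hz2⟩ := Scheme.Pullback.exists_preimage_pullback (f := π) (g := π) q Q h
  obtain ⟨P, rfl⟩ := (pullbackSpecIso A B B).inv.surjective z
  rw [← Scheme.Hom.comp_apply, pullbackSpecIso_inv_fst] at hz1
  rw [← Scheme.Hom.comp_apply, pullbackSpecIso_inv_snd] at hz2
  exact ⟨P.asIdeal, P.isPrime, fun x => by rw [← hz1]; rfl, fun x => by rw [← hz2]; rfl⟩

/-- A coboundary congruent to one modulo `lam` identifies the two images when `lam` is killed. -/
theorem eq_of_congr_one {C : Type u} [CommRing C] (lam : A) (t : B ⊗[A] B) (u : (B ⊗[A] B)ˣ)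
    (hu : (u : B ⊗[A] B) = 1 + algebraMap A _ lam * t) {m : B}
    (hm : m ⊗ₜ[A] (1 : B) = u * ((1 : B) ⊗ₜ[A] m)) (f g : B →+* C)
    (hfg : ∀ r, f (algebraMap A B r) = g (algebraMap A B r)) (h0 : f (algebraMap A B lam) = 0) :
    f m = g m := by
  letI := (f.comp (algebraMap A B)).toAlgebra
  let f' : B →ₐ[A] C := ⟨f, fun _ => rfl⟩
  let g' : B →ₐ[A] C := ⟨g, fun r => (hfg r).symm⟩
  have h := congrArg (Algebra.TensorProduct.productMap f' g') hm
  rw [map_mul, hu, map_add, map_one, map_mul, AlgHom.commutes,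
    show algebraMap A C lam = 0 from h0] at h
  simpa [f', g'] using h

/-- A cocycle congruent to one modulo `lam` is, near any prime, the coboundary of a
function congruent to a unit of the base modulo `lam`. -/
theorem exists_coboundary [Module.FaithfullyFlat A B] (lam : A) (t : B ⊗[A] B) (u : (B ⊗[A] B)ˣ)
    (hu : (u : B ⊗[A] B) = 1 + algebraMap A _ lam * t)
    (hspan : Ideal.span {m : B | m ⊗ₜ[A] (1 : B) = u * ((1 : B) ⊗ₜ[A] m)} = ⊤)
    (p : PrimeSpectrum A) :
    ∃ (e c : A) (y m : B), e ∉ p.asIdeal ∧ c ∣ e ∧ m ∣ algebraMap A B e ∧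
      m = algebraMap A B c + algebraMap A B lam * y ∧ m ⊗ₜ[A] (1 : B) = u * ((1 : B) ⊗ₜ[A] m) := by
  obtain ⟨q, hq⟩ := PrimeSpectrum.comap_surjective_of_faithfullyFlat (A := A) (B := B) p
  set S := {m : B | m ⊗ₜ[A] (1 : B) = u * ((1 : B) ⊗ₜ[A] m)}
  obtain ⟨m, hm, hmq⟩ : ∃ m ∈ S, m ∉ q.asIdeal := by
    by_contra hc
    push Not at hc
    exact q.isPrime.ne_top (top_le_iff.1 (hspan.ge.trans (Ideal.span_le.2 hc)))
  have hqp : q.asIdeal.comap (algebraMap A B) = p.asIdeal := congrArg PrimeSpectrum.asIdeal hq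
  -- primes containing `m` do not lie below `p`
  have key : ∀ Q : PrimeSpectrum B, m ∈ Q.asIdeal → ¬ Q.asIdeal.comap (algebraMap A B) ≤ p.asIdeal := by
    intro Q hmQ hle
    haveI : q.asIdeal.LiesOver p.asIdeal := ⟨hqp.symm⟩
    obtain ⟨q', hq'le, hq'p, hq'⟩ := Ideal.exists_ideal_le_liesOver_of_le (p := Q.asIdeal.comap (algebraMap A B))
      (q := p.asIdeal) q.asIdeal hle
    obtain ⟨P, hP, hP1, hP2⟩ := exists_prime_tensor (A := A) ⟨q', hq'p⟩ Q (PrimeSpectrum.ext hq'.over.symm)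
    refine Q.isPrime.ne_top (top_le_iff.1 (hspan.ge.trans (Ideal.span_le.2 fun m' hm' => ?_)))
    have e : (m ⊗ₜ[A] (1 : B)) * ((1 : B) ⊗ₜ[A] m') = (m' ⊗ₜ[A] (1 : B)) * ((1 : B) ⊗ₜ[A] m) := by
      rw [show m ⊗ₜ[A] (1 : B) = u * ((1 : B) ⊗ₜ[A] m) from hm,
        show m' ⊗ₜ[A] (1 : B) = u * ((1 : B) ⊗ₜ[A] m') from hm']
      ring
    have h1 : (m ⊗ₜ[A] (1 : B)) * ((1 : B) ⊗ₜ[A] m') ∈ P := e ▸ Ideal.mul_mem_left _ _ ((hP2 m).2 hmQ)
    exact (hP2 m').1 ((hP.mem_or_mem h1).resolve_left fun h => hmq (hq'le ((hP1 m).1 h)))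
  obtain ⟨a, b, ha, hab⟩ : ∃ a b, a ∉ p.asIdeal ∧ m * b = algebraMap A B a := by
    by_contra hc
    push Not at hc
    obtain ⟨Q, hQ, hmQ, hQd⟩ := Ideal.exists_le_prime_disjoint (Ideal.span {m})
      (p.asIdeal.primeCompl.map (algebraMap A B)) (by
        rw [Set.disjoint_left]
        rintro x hx ⟨a, ha, rfl⟩
        obtain ⟨b, hb⟩ := Ideal.mem_span_singleton'.1 hx
        exact hc a b ha (by rw [mul_comm]; exact hb))
    refine key ⟨Q, hQ⟩ (hmQ (Ideal.mem_span_singleton_self m)) fun x hx => ?_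
    by_contra hxp
    exact Set.disjoint_left.1 hQd hx ⟨x, hxp, rfl⟩
  -- modulo `lam` the function `m` comes from the base
  let A' := A ⧸ Ideal.span {lam}
  let B' := A' ⊗[A] B
  let ι : B →ₐ[A] B' := Algebra.TensorProduct.includeRight
  have hl0 : algebraMap A A' lam = 0 := Ideal.Quotient.eq_zero_iff_mem.2 (Ideal.mem_span_singleton_self lam)
  have hι : ∀ r, ι (algebraMap A B r) = algebraMap A' B' (algebraMap A A' r) := fun r => by
    rw [ι.commutes, IsScalarTower.algebraMap_apply A A' B']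
  have hm' : (ι m) ⊗ₜ[A'] (1 : B') = (1 : B') ⊗ₜ[A'] (ι m) :=
    eq_of_congr_one (C := B' ⊗[A'] B') lam t u hu hm
      ((Algebra.TensorProduct.includeLeft : B' →ₐ[A'] B' ⊗[A'] B').toRingHom.comp ι.toRingHom)
      ((Algebra.TensorProduct.includeRight : B' →ₐ[A'] B' ⊗[A'] B').toRingHom.comp ι.toRingHom)
      (fun r => by
        show (ι (algebraMap A B r)) ⊗ₜ[A'] (1 : B') = (1 : B') ⊗ₜ[A'] (ι (algebraMap A B r))
        rw [hι]; exact Algebra.TensorProduct.tmul_one_eq_one_tmul _)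
      (by
        show (ι (algebraMap A B lam)) ⊗ₜ[A'] (1 : B') = 0
        rw [hι, hl0, map_zero, TensorProduct.zero_tmul])
  obtain ⟨c', hc'⟩ : ι m ∈ Set.range (algebraMap A' B') :=
    (Algebra.IsEffective.of_faithfullyFlat A' B') (ι m) |>.1 (by
      simpa [Algebra.TensorProduct.includeLeftSubRight_apply, sub_eq_zero] using hm')
  obtain ⟨c₀, rfl⟩ := Ideal.Quotient.mk_surjective c'
  obtain ⟨y₀, hy₀⟩ : ∃ y, m = algebraMap A B c₀ + algebraMap A B lam * y := by
    have h0 : ι (m - algebraMap A B c₀) = 0 := by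
      rw [map_sub, ι.commutes, sub_eq_zero, IsScalarTower.algebraMap_apply A A' B']
      exact hc'.symm
    have h1 := congrArg (TensorProduct.quotTensorEquivQuotSMul B (Ideal.span {lam})) h0
    rw [map_zero] at h1
    have h2 : m - algebraMap A B c₀ ∈ (Ideal.span {lam}) • (⊤ : Submodule A B) := by
      rw [← Submodule.Quotient.mk_eq_zero, ← h1]
      exact (TensorProduct.quotTensorEquivQuotSMul_mk_tmul _ (1 : A) _).trans (by rw [one_smul]) |>.symm
    rw [Submodule.ideal_span_singleton_smul] at h2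
    obtain ⟨y, -, hy⟩ := h2
    exact ⟨y, by
      rw [← Algebra.smul_def, show lam • y = m - algebraMap A B c₀ from hy]
      ring⟩
  -- move `c` out of `p`
  obtain ⟨c, y, hcp, hy⟩ : ∃ c y, c ∉ p.asIdeal ∧ m = algebraMap A B c + algebraMap A B lam * y := by
    by_cases hc : c₀ ∈ p.asIdeal
    · refine ⟨c₀ + lam, y₀ - 1, fun h => ?_, by rw [map_add]; linear_combination hy₀⟩
      have hl : lam ∈ p.asIdeal := by simpa using sub_mem h hc
      refine hmq ?_
      rw [hy₀]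
      exact add_mem (hqp.ge hc) (Ideal.mul_mem_right _ _ (hqp.ge hl))
    · exact ⟨c₀, y₀, hc, hy₀⟩
  exact ⟨a * c, c, y, m, fun h => (p.isPrime.mem_or_mem h).elim ha hcp, dvd_mul_left c a,
    ⟨b * algebraMap A B c, by rw [map_mul, ← hab]; ring⟩, hy, hm⟩

end Groth.Agent.SekSuwaTors19
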