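import Groth.Agent.Lib.SekSuwaTors19.Global
import Groth.Agent.Lib.SekSuwa19.Basic

/-!
# Characters of `G_{μ,N}` over a quotient ring extend to characters of `G^(μ)`

A character of `G_{μ,N}` over a ring `C` is a polynomial `F` of degree less than `N`. The two sides of
`F(x + y + μxy) = F(x)F(y)` have degree less than `N` in each variable, so the identity holds in `C[x, y]`
and `F` is a character of the ambient one-parameter group.
-/

set_option autoImplicit false
set_option linter.style.haveILetI false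
set_option backward.isDefEq.respectTransparency.types false
set_option maxHeartbeats 1000000

universe u

open CategoryTheory CategoryTheory.Limits AlgebraicGeometry MonoidalCategory CartesianMonoidalCategory MonObj
open Polynomial

noncomputable section

namespace Groth.Agent.SekSuwaTors19

section Degree

variable {C : Type u} [CommRing C]

/-- A bound on both partial degrees. -/
def Bd (n : ℕ) (D : C[X][X]) : Prop := D.natDegree ≤ n ∧ ∀ j, (D.coeff j).natDegree ≤ n

theorem Bd.mono {n m : ℕ} {D : C[X][X]} (h : Bd n D) (hnm : n ≤ m) : Bd m D :=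
  ⟨h.1.trans hnm, fun j => (h.2 j).trans hnm⟩

theorem Bd.add {n : ℕ} {D E : C[X][X]} (h : Bd n D) (h' : Bd n E) : Bd n (D + E) :=
  ⟨(natDegree_add_le _ _).trans (max_le h.1 h'.1), fun j => by
    rw [coeff_add]; exact (natDegree_add_le _ _).trans (max_le (h.2 j) (h'.2 j))⟩

theorem Bd.sub {n : ℕ} {D E : C[X][X]} (h : Bd n D) (h' : Bd n E) : Bd n (D - E) :=
  ⟨(natDegree_sub_le _ _).trans (max_le h.1 h'.1), fun j => by
    rw [coeff_sub]; exact (natDegree_sub_le _ _).trans (max_le (h.2 j) (h'.2 j))⟩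

theorem Bd.mul {n m : ℕ} {D E : C[X][X]} (h : Bd n D) (h' : Bd m E) : Bd (n + m) (D * E) :=
  ⟨natDegree_mul_le.trans (add_le_add h.1 h'.1), fun j => by
    rw [coeff_mul]
    exact natDegree_sum_le_of_forall_le _ _ fun i _ => natDegree_mul_le.trans (add_le_add (h.2 _) (h'.2 _))⟩

theorem bd_CC (c : C) (n : ℕ) : Bd n (Polynomial.C (Polynomial.C c)) :=
  ⟨(natDegree_C _).le.trans (Nat.zero_le _), fun j => by
    rw [coeff_C]; split_ifs <;> simp⟩

theorem Bd.pow {D : C[X][X]} (h : Bd 1 D) : ∀ i : ℕ, Bd i (D ^ i)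
  | 0 => by simpa using bd_CC (1 : C) 0
  | i + 1 => by rw [pow_succ]; exact (Bd.pow h i).mul h

theorem bd_eval₂ {D : C[X][X]} (h : Bd 1 D) (F : C[X]) :
    Bd F.natDegree (F.eval₂ (Polynomial.C.comp Polynomial.C) D) := by
  rw [eval₂_eq_sum_range]
  refine Finset.sum_induction _ (Bd F.natDegree) (fun _ _ => Bd.add) ?_ fun i hi => ?_
  · simpa using bd_CC (0 : C) F.natDegree
  · exact ((bd_CC (F.coeff i) 0).mul (h.pow i)).mono (by rw [zero_add]; exact Nat.le_of_lt_succ (Finset.mem_range.1 hi))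

theorem eq_zero_of_mk_eq_zero {A : Type u} [CommRing A] {P D : A[X]} (hP : P.Monic) (hd : D.natDegree < P.natDegree)
    (h : AdjoinRoot.mk P D = 0) : D = 0 := by
  by_contra h0
  exact hP.not_dvd_of_natDegree_lt h0 hd (AdjoinRoot.mk_eq_zero.1 h)

end Degree

open Groth.Agent.DiagGL

variable {R : Type u} [CommRing R] [IsDomain R] {C : Type u} [CommRing C] (q : R →+* C) {mu : R} {N : ℕ}
  (h : SekSuwa.DivCond mu N)

/-- The base morphism. -/
abbrev fq : Spec (CommRingCat.of C) ⟶ Spec (CommRingCat.of R) := Spec.map (CommRingCat.ofHom q)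

/-- The equation of `G_{μ,N}` over `C`. -/
abbrev pbar : C[X] := (SekSuwa.psiPoly mu N h).map q

theorem alg_map (T : Over (Spec (CommRingCat.of C))) (r : R) :
    alg ((Over.map (fq q)).obj T) r = alg (R := C) T (q r) := by
  show (T.hom ≫ fq q).appTop (inΓ R r) = T.hom.appTop (inΓ C (q r))
  rw [Scheme.Hom.comp_appTop, ConcreteCategory.comp_apply]
  exact congrArg T.hom.appTop (appTop_inΓ q r)

/-- The inclusion after base change. -/
abbrev inclC : Red.bc (fq q) (SekSuwa.GK R mu N h) ⟶ Red.bc (fq q) (SekSuwa.G R mu) :=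
  (Over.pullback (fq q)).map (SekSuwa.incl R mu N h)

/-- The coordinate of a point of `G_{μ,N}`. -/
def kv {T : Over (Spec (CommRingCat.of C))} (x : T ⟶ Red.bc (fq q) (SekSuwa.GK R mu N h)) : Γ(T.left, ⊤) :=
  tv (x ≫ inclC q h)

/-- A point as a point over the base. -/
def downK {T : Over (Spec (CommRingCat.of C))} (x : T ⟶ Red.bc (fq q) (SekSuwa.GK R mu N h)) :
    (Over.map (fq q)).obj T ⟶ CoactBr.sp R (SekSuwa.AK R mu N h) :=
  ((Over.mapPullbackAdj (fq q)).homEquiv T (SekSuwa.GK R mu N h)).symm x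

theorem kv_eq {T : Over (Spec (CommRingCat.of C))} (x : T ⟶ Red.bc (fq q) (SekSuwa.GK R mu N h)) :
    kv q h x = ev (downK q h x) SekSuwa.AK.t := by
  have e : down (x ≫ inclC q h) = downK q h x ≫ SekSuwa.incl R mu N h :=
    (Over.mapPullbackAdj (fq q)).homEquiv_naturality_right_symm x (SekSuwa.incl R mu N h)
  rw [kv, tv, e, show SekSuwa.incl R mu N h = CoactBr.pt (SekSuwa.AK.mkHom R mu N h :
    SekSuwa.A R mu →ₐ[R] SekSuwa.AK R mu N h) from rfl, ev_comp, ev_pt]
  rfl

theorem kv_comp {T T' : Over (Spec (CommRingCat.of C))} (e : T' ⟶ T)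
    (x : T ⟶ Red.bc (fq q) (SekSuwa.GK R mu N h)) : kv q h (e ≫ x) = e.left.appTop (kv q h x) := by
  rw [kv_eq, kv_eq, show downK q h (e ≫ x) = (Over.map (fq q)).map e ≫ downK q h x from
    (Over.mapPullbackAdj (fq q)).homEquiv_naturality_left_symm e x, ev_comp]
  rfl

theorem kv_root {T : Over (Spec (CommRingCat.of C))} (x : T ⟶ Red.bc (fq q) (SekSuwa.GK R mu N h)) :
    eval₂ (alg (R := C) T) (kv q h x) (pbar q h) = 0 := by
  rw [eval₂_map, show (alg (R := C) T).comp q = (ev (downK q h x)).comp (algebraMap R (SekSuwa.AK R mu N h)) from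
    RingHom.ext fun r => ((ev_algebraMap (downK q h x) r).trans (alg_map q T r)).symm, kv_eq]
  rw [← hom_eval₂, show eval₂ (algebraMap R (SekSuwa.AK R mu N h)) SekSuwa.AK.t (SekSuwa.psiPoly mu N h) = 0 from
    SekSuwa.AK.aeval_t]
  exact map_zero _

theorem exists_kpt (hN : 0 < N) {T : Over (Spec (CommRingCat.of C))} (b : Γ(T.left, ⊤))
    (hb : eval₂ (alg (R := C) T) b (pbar q h) = 0) :
    ∃ x : T ⟶ Red.bc (fq q) (SekSuwa.GK R mu N h), kv q h x = b := by
  letI : Algebra R Γ(((Over.map (fq q)).obj T).left, ⊤) := (alg ((Over.map (fq q)).obj T)).toAlgebra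
  let e := SekSuwa19.equiv h hN
  let b' : Γ(((Over.map (fq q)).obj T).left, ⊤) := b
  have hb' : Polynomial.aeval b' (SekSuwa.psiPoly mu N h) = 0 := by
    rw [Polynomial.aeval_def]
    show eval₂ (alg ((Over.map (fq q)).obj T)) b' (SekSuwa.psiPoly mu N h) = 0
    rw [show alg ((Over.map (fq q)).obj T) = (alg (R := C) T).comp q from RingHom.ext (alg_map q T)]
    rw [eval₂_map] at hb
    exact hb
  let φ : SekSuwa.AK R mu N h →ₐ[R] Γ(((Over.map (fq q)).obj T).left, ⊤) :=
    (AdjoinRoot.liftAlgHom _ (Algebra.ofId R _) b' hb').comp e.symm.toAlgHom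
  have ht : φ SekSuwa.AK.t = b' := by
    show AdjoinRoot.liftAlgHom _ _ b' hb' (e.symm _) = b'
    have he : e (AdjoinRoot.root _) = SekSuwa.AK.t := AdjoinRoot.liftAlgHom_root _ _ _ SekSuwa.AK.aeval_t
    rw [← he, AlgEquiv.symm_apply_apply, AdjoinRoot.liftAlgHom_root]
  refine ⟨(Over.mapPullbackAdj (fq q)).homEquiv T (SekSuwa.GK R mu N h)
    (mk (A := SekSuwa.AK R mu N h) φ.toRingHom φ.commutes), ?_⟩
  rw [kv_eq, downK]
  erw [Equiv.symm_apply_apply]
  rw [ev_mk]
  exact ht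

theorem kpt_ext (hN : 0 < N) {T : Over (Spec (CommRingCat.of C))}
    {x y : T ⟶ Red.bc (fq q) (SekSuwa.GK R mu N h)} (e : kv q h x = kv q h y) : x = y := by
  refine ((Over.mapPullbackAdj (fq q)).homEquiv T (SekSuwa.GK R mu N h)).symm.injective (ev_injective fun a => ?_)
  letI : Algebra R Γ(((Over.map (fq q)).obj T).left, ⊤) := (alg ((Over.map (fq q)).obj T)).toAlgebra
  let φ : SekSuwa.AK R mu N h →ₐ[R] Γ(((Over.map (fq q)).obj T).left, ⊤) := ⟨ev (downK q h x), ev_algebraMap _⟩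
  let ψ : SekSuwa.AK R mu N h →ₐ[R] Γ(((Over.map (fq q)).obj T).left, ⊤) := ⟨ev (downK q h y), ev_algebraMap _⟩
  suffices hs : φ = ψ from DFunLike.congr_fun hs a
  let eq := SekSuwa19.equiv h hN
  apply (AlgHom.cancel_right (f := eq.toAlgHom) eq.surjective).1
  refine AdjoinRoot.algHom_ext ?_
  show φ (eq (AdjoinRoot.root _)) = ψ (eq (AdjoinRoot.root _))
  rw [show eq (AdjoinRoot.root _) = SekSuwa.AK.t from AdjoinRoot.liftAlgHom_root _ _ _ SekSuwa.AK.aeval_t]
  rw [kv_eq, kv_eq] at e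
  exact e

theorem lamT_fq (T : Over (Spec (CommRingCat.of C))) : lamT (fq q) mu T = alg (R := C) T (q mu) :=
  alg_map q T mu

theorem tv_comp' {T T' : Over (Spec (CommRingCat.of C))} (e : T' ⟶ T)
    (g : T ⟶ Red.bc (fq q) (SekSuwa.G R mu)) : tv (e ≫ g) = e.left.appTop (tv g) := by
  rw [tv, down_comp, ev_comp]
  rfl

theorem tv_mul' {T : Over (Spec (CommRingCat.of C))} (g g' : T ⟶ Red.bc (fq q) (SekSuwa.G R mu)) :
    tv (g * g') = tv g + tv g' + lamT (fq q) mu T * (tv g * tv g') := by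
  letI : Algebra R Γ(((Over.map (fq q)).obj T).left, ⊤) := (alg ((Over.map (fq q)).obj T)).toAlgebra
  letI : Algebra R Γ(T.left, ⊤) := RingHom.toAlgebra (alg ((Over.map (fq q)).obj T) : R →+* Γ(T.left, ⊤))
  have e : down (g * g') = down g * down g' := by
    apply ((Over.mapPullbackAdj (fq q)).homEquiv T (SekSuwa.G R mu)).injective
    refine Eq.trans ?_ (homEquiv_mul (G := SekSuwa.G R mu) (fq q) T (down g) (down g')).symm
    simp only [down, Equiv.apply_symm_apply]
  rw [tv, e, ev_mul]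
  show (Algebra.TensorProduct.lift _ _ _) (Coalgebra.comul (R := R) SekSuwa.A.t) = _
  rw [SekSuwa.A.comul_t, map_add, map_add, map_smul, Algebra.TensorProduct.lift_tmul, Algebra.TensorProduct.lift_tmul,
    Algebra.TensorProduct.lift_tmul, map_one, map_one, _root_.mul_one, _root_.one_mul, Algebra.smul_def]
  rfl

theorem tv_one {T : Over (Spec (CommRingCat.of C))} : tv (1 : T ⟶ Red.bc (fq q) (SekSuwa.G R mu)) = 0 := by
  have e : (1 : T ⟶ Red.bc (fq q) (SekSuwa.G R mu)) * 1 = 1 := by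
    letI : Monoid (T ⟶ Red.bc (fq q) (SekSuwa.G R mu)) := Hom.monoid
    exact _root_.mul_one _
  have h1 := tv_mul' q (1 : T ⟶ Red.bc (fq q) (SekSuwa.G R mu)) 1
  rw [e] at h1
  have h2 : uv (1 : T ⟶ Red.bc (fq q) (SekSuwa.G R mu)) * tv (1 : T ⟶ Red.bc (fq q) (SekSuwa.G R mu)) = 0 := by
    rw [uv_eq]; linear_combination -h1
  exact (isUnit_uv _).mul_right_eq_zero.1 h2

include h in
/-- Characters of `G_{μ,N}` over `C` extend. -/
theorem exists_extension (hN : 0 < N) [Nontrivial C]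
    (φ : Red.bc (fq q) (SekSuwa.GK R mu N h) ⟶ Red.bc (fq q) (Red.diag R ℤ)) [IsMonHom φ] :
    ∃ ψ : Red.bc (fq q) (SekSuwa.G R mu) ⟶ Red.bc (fq q) (Red.diag R ℤ),
      IsMonHom ψ ∧ (Over.pullback (fq q)).map (SekSuwa.incl R mu N h) ≫ ψ = φ := by
  let P := pbar q h
  have hP : P.Monic := (SekSuwa19.monic h hN).map q
  have hPd : P.natDegree = N := by
    rw [(SekSuwa19.monic h hN).natDegree_map q, SekSuwa19.natDegree_eq h hN]
  -- the universal point
  let T0 : Over (Spec (CommRingCat.of C)) := CoactBr.sp C (AdjoinRoot P)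
  have halg : ∀ c : C, alg (R := C) T0 c = inΓ (AdjoinRoot P) (AdjoinRoot.of P c) := fun c =>
    (appTop_inΓ (algebraMap C (AdjoinRoot P)) c)
  obtain ⟨x0, hx0⟩ := exists_kpt q h hN (T := T0) (inΓ (AdjoinRoot P) (AdjoinRoot.root P)) (by
    rw [show alg (R := C) T0 = (inΓ (AdjoinRoot P)).comp (AdjoinRoot.of P) from RingHom.ext halg]
    erw [← hom_eval₂]
    rw [show eval₂ (AdjoinRoot.of P) (AdjoinRoot.root P) P = 0 from AdjoinRoot.eval₂_root P]
    exact map_zero _)
  obtain ⟨v, hv⟩ := (bijective_inΓ (AdjoinRoot P)).2 (gv (x0 ≫ φ))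
  obtain ⟨F₀, rfl⟩ := AdjoinRoot.mk_surjective v
  let F := F₀ %ₘ P
  have hFv : AdjoinRoot.mk P F = AdjoinRoot.mk P F₀ :=
    AdjoinRoot.mk_eq_mk.2 ⟨-(F₀ /ₘ P), by linear_combination (modByMonic_add_div F₀ P)⟩
  have hFd : F.natDegree < N := by
    rw [← hPd]
    exact natDegree_modByMonic_lt F₀ hP (fun e1 => by rw [e1, natDegree_one] at hPd; omega)
  have hF : ∀ {T : Over (Spec (CommRingCat.of C))} (x : T ⟶ Red.bc (fq q) (SekSuwa.GK R mu N h)),
      gv (x ≫ φ) = eval₂ (alg (R := C) T) (kv q h x) F := by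
    intro T x
    let θ : AdjoinRoot P →+* Γ(T.left, ⊤) := AdjoinRoot.lift (alg (R := C) T) (kv q h x) (kv_root q h x)
    let e : T ⟶ T0 := mk (R := C) (A := AdjoinRoot P) θ fun c => AdjoinRoot.lift_of _
    have he : ∀ z, e.left.appTop (inΓ (AdjoinRoot P) z) = θ z := fun z =>
      RingHom.congr_fun (ev_mk (R := C) (A := AdjoinRoot P) θ fun c => AdjoinRoot.lift_of _) z
    have hex : e ≫ x0 = x := kpt_ext q h hN (by
      rw [kv_comp, hx0]
      exact (he _).trans (AdjoinRoot.lift_root _))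
    rw [← hex, Category.assoc, gv_comp, ← hv, hex, ← hFv]
    exact (he _).trans (AdjoinRoot.lift_mk _ _)
  have hF0 : F.eval 0 = 1 := by
    have h1 := hF (T := Over.mk (𝟙 (Spec (CommRingCat.of C)))) 1
    rw [MonObj.one_comp φ, gv_one, kv, MonObj.one_comp (inclC q h), tv_one, eval₂_at_zero] at h1
    refine (bijective_inΓ C).1 ?_
    rw [← coeff_zero_eq_eval_zero, map_one, h1]
    show _ = Scheme.Hom.appTop (𝟙 (Spec (CommRingCat.of C))) (inΓ C _)
    simp
  -- the identity in two variables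
  let P₂ : (AdjoinRoot P)[X] := P.map (AdjoinRoot.of P)
  let A2 := AdjoinRoot P₂
  let i₂ : C →+* A2 := (AdjoinRoot.of P₂).comp (AdjoinRoot.of P)
  let a₂ : A2 := AdjoinRoot.of P₂ (AdjoinRoot.root P)
  let b₂ : A2 := AdjoinRoot.root P₂
  letI : Algebra C A2 := i₂.toAlgebra
  let T2 : Over (Spec (CommRingCat.of C)) := CoactBr.sp C A2
  have halg2 : alg (R := C) T2 = (inΓ A2).comp i₂ := RingHom.ext fun c => appTop_inΓ (algebraMap C A2) c
  have ha : eval₂ i₂ a₂ P = 0 := by
    rw [show i₂ = (AdjoinRoot.of P₂).comp (AdjoinRoot.of P) from rfl, ← hom_eval₂, AdjoinRoot.eval₂_root, map_zero]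
  have hb : eval₂ i₂ b₂ P = 0 := by
    rw [show i₂ = (AdjoinRoot.of P₂).comp (AdjoinRoot.of P) from rfl, ← eval₂_map]
    exact AdjoinRoot.eval₂_root P₂
  obtain ⟨x, hx⟩ := exists_kpt q h hN (T := T2) (inΓ A2 a₂) (by
    rw [halg2]; erw [← hom_eval₂]; rw [ha]; exact map_zero _)
  obtain ⟨y, hy⟩ := exists_kpt q h hN (T := T2) (inΓ A2 b₂) (by
    rw [halg2]; erw [← hom_eval₂]; rw [hb]; exact map_zero _)
  have hid2 : eval₂ i₂ (a₂ + b₂ + i₂ (q mu) * (a₂ * b₂)) F = eval₂ i₂ a₂ F * eval₂ i₂ b₂ F := by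
    have h1 : gv ((x * y) ≫ φ) = gv (x ≫ φ) * gv (y ≫ φ) := by rw [MonObj.mul_comp x y φ, gv_mul]
    rw [hF, hF, hF, hx, hy] at h1
    have h2 : kv q h (x * y) = inΓ A2 (a₂ + b₂ + i₂ (q mu) * (a₂ * b₂)) := by
      rw [kv, MonObj.mul_comp x y (inclC q h), tv_mul', show tv (x ≫ inclC q h) = inΓ A2 a₂ from hx,
        show tv (y ≫ inclC q h) = inΓ A2 b₂ from hy, lamT_fq, halg2]
      simp
      rfl
    rw [h2, halg2] at h1
    refine (bijective_inΓ A2).1 ?_
    rw [map_mul, hom_eval₂, hom_eval₂, hom_eval₂]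
    exact h1
  let ι₂ : C →+* C[X][X] := Polynomial.C.comp Polynomial.C
  let Xv : C[X][X] := Polynomial.C Polynomial.X
  let Yv : C[X][X] := Polynomial.X
  let L : C[X][X] := Xv + Yv + ι₂ (q mu) * (Xv * Yv)
  let D : C[X][X] := eval₂ ι₂ L F - eval₂ ι₂ Xv F * eval₂ ι₂ Yv F
  have hXF : eval₂ ι₂ Xv F = Polynomial.C F := by
    rw [show Xv = Polynomial.C Polynomial.X from rfl, ← hom_eval₂, eval₂_C_X]
  have hYF : eval₂ ι₂ Yv F = F.map Polynomial.C := rfl
  have hD : Bd F.natDegree D := by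
    have hL : Bd 1 L := by
      refine ((?_ : Bd 1 Xv).add ?_).add ?_
      · exact ⟨(natDegree_C _).le.trans (Nat.zero_le _), fun j => by
          show (coeff (Polynomial.C Polynomial.X) j).natDegree ≤ 1
          rw [coeff_C]; split_ifs <;> simp [natDegree_X_le]⟩
      · exact ⟨natDegree_X_le, fun j => by
          show (coeff (Polynomial.X : C[X][X]) j).natDegree ≤ 1
          rw [coeff_X]; split_ifs <;> simp⟩
      · refine ⟨?_, fun j => ?_⟩
        · refine natDegree_mul_le.trans (le_of_le_of_eq (add_le_add (natDegree_C _).le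
            (natDegree_mul_le.trans (add_le_add (natDegree_C _).le natDegree_X_le))) (by simp))
        · show (coeff (Polynomial.C (Polynomial.C (q mu)) * (Polynomial.C Polynomial.X * Polynomial.X)) j).natDegree ≤ 1
          rw [coeff_C_mul, coeff_C_mul, coeff_X]
          split_ifs
          · rw [_root_.mul_one]; exact (natDegree_C_mul_le _ _).trans natDegree_X_le
          · simp
    refine (bd_eval₂ hL F).sub ?_
    rw [hXF, hYF]
    refine ⟨?_, fun j => ?_⟩
    · exact (natDegree_C_mul_le _ _).trans natDegree_map_le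
    · rw [coeff_C_mul, coeff_map, ← _root_.mul_comm]
      exact natDegree_C_mul_le _ _
  have hD0 : D = 0 := by
    let Φ : C[X][X] →+* A2 := (AdjoinRoot.mk P₂).comp (mapRingHom (AdjoinRoot.mk P))
    have hΦi : Φ.comp ι₂ = i₂ := RingHom.ext fun c => by simp [Φ, ι₂, i₂, P₂]
    have hΦX : Φ Xv = a₂ := by simp [Φ, Xv, a₂, P₂]
    have hΦY : Φ Yv = b₂ := by simp [Φ, Yv, b₂, P₂]
    have hΦi' : Φ (ι₂ (q mu)) = i₂ (q mu) := RingHom.congr_fun hΦi (q mu)
    have hΦD : Φ D = 0 := by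
      show Φ (eval₂ ι₂ L F - _) = 0
      rw [map_sub, map_mul, hom_eval₂, hom_eval₂, hom_eval₂, hΦi, hΦX, hΦY, sub_eq_zero,
        show Φ L = a₂ + b₂ + i₂ (q mu) * (a₂ * b₂) by
          show Φ (Xv + Yv + ι₂ (q mu) * (Xv * Yv)) = _
          rw [map_add, map_add, map_mul, map_mul, hΦX, hΦY, hΦi']]
      exact hid2
    haveI : Nontrivial (AdjoinRoot P) := ⟨⟨1, 0, fun e1 => one_ne_zero (α := C[X])
      (eq_zero_of_mk_eq_zero hP (by rw [natDegree_one, hPd]; exact hN) (by rw [map_one]; exact e1))⟩⟩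
    have h1 : D.map (AdjoinRoot.mk P) = 0 :=
      eq_zero_of_mk_eq_zero (hP.map _) (lt_of_le_of_lt (natDegree_map_le.trans hD.1)
        (by rw [hP.natDegree_map, hPd]; exact hFd)) hΦD
    refine Polynomial.ext fun j => ?_
    rw [coeff_zero]
    refine eq_zero_of_mk_eq_zero hP (lt_of_le_of_lt (hD.2 j) (hPd.symm ▸ hFd)) ?_
    rw [← coeff_map, h1, coeff_zero]
  have hid : ∀ {S : Type u} [CommRing S] (i : C →+* S) (s t : S),
      eval₂ i (s + t + i (q mu) * (s * t)) F = eval₂ i s F * eval₂ i t F := by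
    intro S _ i s t
    let E : C[X][X] →+* S := eval₂RingHom (eval₂RingHom i s) t
    have hEi : E.comp ι₂ = i := RingHom.ext fun c => by simp [E, ι₂]
    have hEX : E Xv = s := by simp [E, Xv]
    have hEY : E Yv = t := by simp [E, Yv]
    have h1 := congrArg E hD0
    rw [show D = eval₂ ι₂ L F - eval₂ ι₂ Xv F * eval₂ ι₂ Yv F from rfl, map_sub, map_mul, map_zero,
      hom_eval₂, hom_eval₂, hom_eval₂, hEi, hEX, hEY, sub_eq_zero,
      show E L = s + t + i (q mu) * (s * t) by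
        show E (Xv + Yv + ι₂ (q mu) * (Xv * Yv)) = _
        rw [map_add, map_add, map_mul, map_mul, hEX, hEY]
        exact congrArg (fun z => s + t + z * (s * t)) (RingHom.congr_fun hEi (q mu))] at h1
    exact h1
  -- the extension
  let G' := Red.bc (fq q) (SekSuwa.G R mu)
  let t₀ := tv (𝟙 G')
  obtain ⟨c, hc⟩ := (isUnit_uv (𝟙 G')).exists_right_inv
  rw [uv_eq, lamT_fq] at hc
  have hu : IsUnit (eval₂ (alg (R := C) G') t₀ F) := by
    refine IsUnit.of_mul_eq_one (eval₂ (alg (R := C) G') (-(t₀ * c)) F) ?_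
    rw [← hid, show t₀ + -(t₀ * c) + alg (R := C) G' (q mu) * (t₀ * -(t₀ * c)) = 0 by
      linear_combination -t₀ * hc, eval₂_at_zero, coeff_zero_eq_eval_zero, hF0, map_one]
  obtain ⟨ψ, hψ⟩ := exists_gm (f := fq q) _ hu
  have hval : ∀ {T : Over (Spec (CommRingCat.of C))} (g : T ⟶ G'), gv (g ≫ ψ) = eval₂ (alg (R := C) T) (tv g) F := by
    intro T g
    rw [gv_comp, hψ]
    erw [hom_eval₂]
    rw [← tv_comp' q g (𝟙 G'), Category.comp_id]
    congr 1
    refine RingHom.ext fun r => ?_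
    show g.left.appTop (G'.hom.appTop (inΓ C r)) = T.hom.appTop (inΓ C r)
    rw [← Over.w g, Scheme.Hom.comp_appTop]
    rfl
  have hone : (1 : 𝟙_ (Over (Spec (CommRingCat.of C))) ⟶ G') ≫ ψ = 1 := gv_injective (by
    rw [hval, tv_one, gv_one, eval₂_at_zero, coeff_zero_eq_eval_zero, hF0, map_one])
  have hmul : ∀ {T : Over (Spec (CommRingCat.of C))} (g g' : T ⟶ G'), (g * g') ≫ ψ = (g ≫ ψ) * (g' ≫ ψ) :=
    fun g g' => gv_injective (by rw [hval, gv_mul, hval, hval, tv_mul', lamT_fq, hid])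
  refine ⟨ψ, { one_hom := ?_, mul_hom := ?_ }, gv_injective ?_⟩
  · have := hone
    rw [Hom.one_def, Hom.one_def, toUnit_unique (toUnit _) (𝟙 _), Category.id_comp, Category.id_comp] at this
    exact this
  · have := hmul (fst G' G') (snd G' G')
    rw [Hom.mul_def, Hom.mul_def, lift_fst_snd, Category.id_comp] at this
    rw [this]
    congr 1

  · rw [hval]
    have h1 := hF (𝟙 (Red.bc (fq q) (SekSuwa.GK R mu N h)))
    rw [Category.id_comp, kv, Category.id_comp] at h1
    exact h1.symm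

end Groth.Agent.SekSuwaTors19
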