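import Groth.Agent.Lib.SekSuwaTors19.Points
import Groth.Prelude.Def_Red

/-!
# Points of the multiplicative group as units
-/

set_option autoImplicit false
set_option linter.style.haveILetI false
set_option backward.isDefEq.respectTransparency.types false
set_option maxHeartbeats 1000000

universe u

open CategoryTheory CategoryTheory.Limits AlgebraicGeometry MonoidalCategory CartesianMonoidalCategory MonObj

noncomputable section

namespace Groth.Agent.SekSuwaTors19

open Groth.Agent.DiagGL

variable {R : Type u} [CommRing R] {X : Scheme.{u}} {f : X ⟶ Spec (CommRingCat.of R)}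

/-- The coordinate of the multiplicative group. -/
abbrev gen (R : Type u) [CommRing R] (n : ℤ) : MonoidAlgebra R (Multiplicative ℤ) :=
  MonoidAlgebra.single (Multiplicative.ofAdd n) 1

/-- A point of the multiplicative group as a point over the base. -/
def downGm {T : Over X} (z : T ⟶ Red.bc f (Red.diag R ℤ)) :
    (Over.map f).obj T ⟶ Red.diag R ℤ :=
  ((Over.mapPullbackAdj f).homEquiv T (Red.diag R ℤ)).symm z

/-- The unit of a point of the multiplicative group. -/
def gv {T : Over X} (z : T ⟶ Red.bc f (Red.diag R ℤ)) : Γ(T.left, ⊤) :=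
  ev (A := MonoidAlgebra R (Multiplicative ℤ)) (downGm z) (gen R 1)

theorem downGm_mul {T : Over X} (z z' : T ⟶ Red.bc f (Red.diag R ℤ)) :
    downGm (z * z') = downGm z * downGm z' := by
  apply ((Over.mapPullbackAdj f).homEquiv T (Red.diag R ℤ)).injective
  refine Eq.trans ?_ (homEquiv_mul (G := Red.diag R ℤ) f T (downGm z) (downGm z')).symm
  simp only [downGm, Equiv.apply_symm_apply]

theorem gv_mul {T : Over X} (z z' : T ⟶ Red.bc f (Red.diag R ℤ)) : gv (z * z') = gv z * gv z' := by
  rw [gv, downGm_mul]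
  exact ev_mul_glike (A := MonoidAlgebra R (Multiplicative ℤ)) (downGm z) (downGm z') (by simp [gen])

theorem gv_comp {T T' : Over X} (q : T' ⟶ T) (z : T ⟶ Red.bc f (Red.diag R ℤ)) :
    gv (q ≫ z) = q.left.appTop (gv z) := by
  rw [gv, show downGm (q ≫ z) = (Over.map f).map q ≫ downGm z from
    (Over.mapPullbackAdj f).homEquiv_naturality_left_symm q z, ev_comp]
  rfl

theorem gen_mul_neg (R : Type u) [CommRing R] (n : ℤ) : gen R n * gen R (-n) = 1 := by
  rw [gen, gen, MonoidAlgebra.single_mul_single, ← ofAdd_add, add_neg_cancel, _root_.one_mul]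
  rfl

theorem isUnit_gv {T : Over X} (z : T ⟶ Red.bc f (Red.diag R ℤ)) : IsUnit (gv z) :=
  (IsUnit.of_mul_eq_one _ (gen_mul_neg R 1)).map (ev (A := MonoidAlgebra R (Multiplicative ℤ)) (downGm z))

theorem gv_injective {T : Over X} {z z' : T ⟶ Red.bc f (Red.diag R ℤ)} (e : gv z = gv z') : z = z' := by
  letI : Algebra R Γ(((Over.map f).obj T).left, ⊤) := (alg ((Over.map f).obj T)).toAlgebra
  let φ : MonoidAlgebra R (Multiplicative ℤ) →ₐ[R] Γ(((Over.map f).obj T).left, ⊤) :=
    ⟨ev (A := MonoidAlgebra R (Multiplicative ℤ)) (downGm z), ev_algebraMap _⟩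
  let ψ : MonoidAlgebra R (Multiplicative ℤ) →ₐ[R] Γ(((Over.map f).obj T).left, ⊤) :=
    ⟨ev (A := MonoidAlgebra R (Multiplicative ℤ)) (downGm z'), ev_algebraMap _⟩
  suffices h : φ = ψ from ((Over.mapPullbackAdj f).homEquiv T (Red.diag R ℤ)).symm.injective
    (ev_injective fun a => DFunLike.congr_fun h a)
  have h1 : φ (gen R 1) = ψ (gen R 1) := e
  have hn : φ (gen R (-1)) = ψ (gen R (-1)) := by
    have a1 : φ (gen R 1) * φ (gen R (-1)) = 1 := by rw [← map_mul, gen_mul_neg, map_one]
    have a2 : φ (gen R 1) * ψ (gen R (-1)) = 1 := by rw [h1, ← map_mul, gen_mul_neg, map_one]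
    exact left_inv_eq_right_inv ((mul_comm _ _).trans a1) a2
  have key : ∀ n : ℤ, φ (gen R n) = ψ (gen R n) := by
    intro n
    induction n using Int.induction_on with
    | zero => simp [gen, ← MonoidAlgebra.one_def, map_one φ, map_one ψ]
    | succ m ih =>
      rw [show gen R ((m : ℤ) + 1) = gen R m * gen R 1 by simp [gen, ofAdd_add], map_mul, map_mul, ih, h1]
    | pred m ih =>
      rw [show gen R (-(m : ℤ) - 1) = gen R (-(m : ℤ)) * gen R (-1) by
        simp [gen, sub_eq_add_neg, ofAdd_add], map_mul, map_mul, ih, hn]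
  exact MonoidAlgebra.algHom_ext (fun a => key (Multiplicative.toAdd a)) (Subsingleton.elim _ _)

theorem exists_gm {T : Over X} (b : Γ(T.left, ⊤)) (hb : IsUnit b) :
    ∃ z : T ⟶ Red.bc f (Red.diag R ℤ), gv z = b := by
  letI : Algebra R Γ(((Over.map f).obj T).left, ⊤) := (alg ((Over.map f).obj T)).toAlgebra
  let φ : MonoidAlgebra R (Multiplicative ℤ) →ₐ[R] Γ(((Over.map f).obj T).left, ⊤) :=
    MonoidAlgebra.lift R Γ(((Over.map f).obj T).left, ⊤) (Multiplicative ℤ)
      ((Units.coeHom _).comp (zpowersHom _ hb.unit))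
  refine ⟨(Over.mapPullbackAdj f).homEquiv T (Red.diag R ℤ)
    (mk (A := MonoidAlgebra R (Multiplicative ℤ)) φ.toRingHom φ.commutes), ?_⟩
  rw [gv, downGm]
  erw [Equiv.symm_apply_apply]
  rw [ev_mk]
  show φ (gen R 1) = _
  simp [φ, gen]
  exact one_smul (α := Γ(((Over.map f).obj T).left, ⊤)) R b

end Groth.Agent.SekSuwaTors19
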