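import Groth.Agent.Lib.SekSuwaTors19.Main
import Groth.Agent.Lib.SekSuwaTors19.Gm
import Groth.Agent.Lib.PushTors19.Torsor
import Mathlib.LinearAlgebra.TensorProduct.Quotient

/-!
# Global sections of torsors under `G^(λ)`
-/

set_option autoImplicit false
set_option linter.style.haveILetI false
set_option backward.isDefEq.respectTransparency.types false
set_option maxHeartbeats 1000000

universe u

open CategoryTheory CategoryTheory.Limits AlgebraicGeometry MonoidalCategory CartesianMonoidalCategory MonObj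
open TensorProduct

noncomputable section

namespace Groth.Agent.SekSuwaTors19

variable {R : Type u} [CommRing R] [IsDomain R] {lam : R} {X : Scheme.{u}}
  {f : X ⟶ Spec (CommRingCat.of R)} {P : Over X} {a : AlgGrp.Action (Red.bc f (SekSuwa.G R lam)) P}

/-- The difference of two points of a torsor. -/
def dg (ha : NonAbH1.IsPseudoTorsorSch a) {T : Over X} (x y : T ⟶ P) : T ⟶ Red.bc f (SekSuwa.G R lam) :=
  (TorsorSch25.existsUnique_smul ha y x).exists.choose

theorem dg_spec (ha : NonAbH1.IsPseudoTorsorSch a) {T : Over X} (x y : T ⟶ P) :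
    lift (dg ha x y) y ≫ a.act = x :=
  (TorsorSch25.existsUnique_smul ha y x).exists.choose_spec

theorem dg_comp (ha : NonAbH1.IsPseudoTorsorSch a) {T T' : Over X} (q : T' ⟶ T) (x y : T ⟶ P) :
    q ≫ dg ha x y = dg ha (q ≫ x) (q ≫ y) :=
  TorsorSch25.smul_cancel (a := a) ha (x := q ≫ y) (by rw [← comp_act, dg_spec, dg_spec])

theorem dg_mul (ha : NonAbH1.IsPseudoTorsorSch a) {T : Over X} (x y z : T ⟶ P) :
    dg ha x y * dg ha y z = dg ha x z :=
  TorsorSch25.smul_cancel (a := a) ha (x := z) (by rw [mul_act_pt, dg_spec, dg_spec, dg_spec])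

theorem dg_self (ha : NonAbH1.IsPseudoTorsorSch a) {T : Over X} (x : T ⟶ P) : dg ha x x = 1 :=
  mul_left_cancel (a := dg ha x x) (by rw [dg_mul, _root_.mul_one])

theorem gv_one {T : Over X} : gv (1 : T ⟶ Red.bc f (Red.diag R ℤ)) = 1 := by
  have h := gv_mul (f := f) (1 : T ⟶ Red.bc f (Red.diag R ℤ)) 1
  have e : (1 : T ⟶ Red.bc f (Red.diag R ℤ)) * 1 = 1 := by
    letI : Monoid (T ⟶ Red.bc f (Red.diag R ℤ)) := Hom.monoid
    exact _root_.mul_one _
  rw [e] at h
  exact ((isUnit_gv _).mul_eq_left.1 h.symm)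

theorem uv_one {T : Over X} : uv (1 : T ⟶ Red.bc f (SekSuwa.G R lam)) = 1 := by
  have h := uv_mul (f := f) (lam := lam) (1 : T ⟶ Red.bc f (SekSuwa.G R lam)) 1
  erw [_root_.mul_one] at h
  exact ((isUnit_uv _).mul_eq_left.1 h.symm)

/-- Points agreeing in the coordinate on a scheme flat over the base are equal. -/
theorem uv_injective_of_flat (hlam : lam ≠ 0) {T : Over X} [Flat (T.hom ≫ f)]
    {g h : T ⟶ Red.bc f (SekSuwa.G R lam)} (e : uv g = uv h) : g = h := by
  have hcov : T.left.affineCover.presieve₀ ∈ Scheme.fpqcPrecoverage T.left :=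
    Scheme.zariskiPrecoverage_le_fpqcPrecoverage _ T.left.affineCover.mem₀
  have hsel : ∀ {Y : Scheme.{u}} (v : Y ⟶ T.left), T.left.affineCover.presieve₀ v →
      ∃ (W' : Scheme.{u}) (w₀ : W' ⟶ T.left), IsOpenImmersion w₀ ∧ IsAffine W' ∧ ∃ q : Y ⟶ W', q ≫ w₀ = v := by
    rintro Y v ⟨i⟩
    exact ⟨_, T.left.affineCover.f i, inferInstance, inferInstance, 𝟙 _, Category.id_comp _⟩
  refine TorsorSch25.hom_ext_of_cover hcov fun W w hw => ?_
  obtain ⟨W', w₀, hw₀, hW', hfac⟩ := hsel w.left hw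
  obtain ⟨q, hq⟩ := hfac
  let T' : Over X := Over.mk (w₀ ≫ T.hom)
  haveI : IsAffine T'.left := hW'
  haveI : Flat (T'.hom ≫ f) := by
    show Flat ((w₀ ≫ T.hom) ≫ f)
    rw [Category.assoc]
    infer_instance
  let w' : T' ⟶ T := Over.homMk w₀ rfl
  have : w' ≫ g = w' ≫ h := uv_injective (lamT_nzd hlam T') (by rw [uv_comp, uv_comp, e])
  let q' : W ⟶ T' := Over.homMk q (by show q ≫ w₀ ≫ T.hom = W.hom; rw [reassoc_of% hq]; exact Over.w w)
  have hqw : q' ≫ w' = w := Over.OverMorphism.ext hq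
  rw [← hqw, Category.assoc, Category.assoc, this]

theorem exists_glue_family {κ : Type u} {V : κ → Scheme.{u}} {fi : ∀ i, V i ⟶ X}
    (hf : Presieve.ofArrows V fi ∈ Scheme.fpqcPrecoverage X) {T Z : Over X}
    (val : ∀ {T' : Over X} {j : κ}, (T' ⟶ T) → (T' ⟶ Over.mk (fi j)) → (T' ⟶ Z))
    (hnat : ∀ {T' T'' : Over X} {j : κ} (r : T'' ⟶ T') (q : T' ⟶ T) (x : T' ⟶ Over.mk (fi j)),
      r ≫ val q x = val (r ≫ q) (r ≫ x))
    (hcompat : ∀ {T' : Over X} {j j' : κ} (q : T' ⟶ T) (x : T' ⟶ Over.mk (fi j)) (y : T' ⟶ Over.mk (fi j')),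
      val q x = val q y) :
    ∃ z : T ⟶ Z, ∀ {T' : Over X} {j : κ} (q : T' ⟶ T) (x : T' ⟶ Over.mk (fi j)), q ≫ z = val q x := by
  obtain ⟨z, hz⟩ := TorsorSch25.exists_glue (T := T) (Z := Z)
    (fun T' q z => ∀ {T'' : Over X} {j : κ} (r : T'' ⟶ T') (x : T'' ⟶ Over.mk (fi j)), r ≫ z = val (r ≫ q) x)
    (fun T' T'' r q z hz T₃ j r' x => by rw [← Category.assoc, hz (r' ≫ r) x, Category.assoc])
    (fun T' q z z' hz hz' => TorsorSch25.hom_ext_of_cover (Precoverage.pullbackArrows_mem T'.hom hf)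
      fun T'' r hr => by
        obtain ⟨j, ⟨x⟩⟩ := PushTors19.exists_local T' r hr
        rw [hz r x, hz' r x])
    (Precoverage.pullbackArrows_mem T.hom hf)
    (fun T' q hq => by
      obtain ⟨j, ⟨x⟩⟩ := PushTors19.exists_local T q hq
      exact ⟨val q x, fun {T''} {j'} r y => by rw [hnat]; exact hcompat _ _ _⟩)
  refine ⟨z, fun {T'} {j} q x => ?_⟩
  let u : Over.mk (pullback.snd (fi j) T.hom ≫ T.hom) ⟶ T := Over.homMk (pullback.snd (fi j) T.hom) rfl
  let r : T' ⟶ Over.mk (pullback.snd (fi j) T.hom ≫ T.hom) :=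
    Over.homMk (pullback.lift x.left q.left ((Over.w x).trans (Over.w q).symm))
      (by show _ ≫ _ ≫ T.hom = _; rw [pullback.lift_snd_assoc]; exact Over.w q)
  have hr : r ≫ u = q := Over.OverMorphism.ext (pullback.lift_snd _ _ _)
  rw [← hr, Category.assoc]
  exact hz u ⟨_, _, Presieve.ofArrows.mk j⟩ r x

theorem exists_eq_lam_mul {B : Type u} [CommRing B] [Algebra R B] (x : B)
    (h : x ⊗ₜ[R] (1 : R ⧸ Ideal.span {lam}) = 0) : ∃ y, x = algebraMap R B lam * y := by
  have h1 := congrArg (TensorProduct.tensorQuotEquivQuotSMul B (Ideal.span {lam})) h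
  rw [map_zero] at h1
  have h2 : x ∈ (Ideal.span {lam}) • (⊤ : Submodule R B) := by
    rw [← Submodule.Quotient.mk_eq_zero, ← h1]
    exact ((TensorProduct.tensorQuotEquivQuotSMul_tmul_mk (Ideal.span {lam}) x (1 : R)).trans
      (by rw [one_smul])).symm
  rw [Submodule.ideal_span_singleton_smul] at h2
  obtain ⟨y, -, hy⟩ := h2
  exact ⟨y, by rw [← Algebra.smul_def]; exact hy.symm⟩

/-- A torsor under `G^(λ)` has a section when the units of `X` surject to those of `X_λ` and torsors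
under the multiplicative group are trivial. -/
theorem hasSectionOver_of_units_surjective (hlam : lam ≠ 0) [Flat f]
    (hunit : Function.Surjective (Units.map
      (pullback.fst f (Spec.map (CommRingCat.ofHom (Ideal.Quotient.mk (Ideal.span ({lam} : Set R)))))).appTop.hom.toMonoidHom))
    (hpic : ∀ (Q : Over X) (b : AlgGrp.Action (Red.bc f (Red.diag R ℤ)) Q),
      NonAbH1.IsTorsorFor Scheme.fppfPrecoverage b → NonAbH1.HasSectionOver Q (𝟙 X))
    (ha : NonAbH1.IsTorsorFor Scheme.fppfPrecoverage a) :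
    NonAbH1.HasSectionOver P (𝟙 X) := by
  obtain ⟨hps, R₁, hR₁, hsec⟩ := isLocallyTrivial_zariski hlam ha
  -- affine charts with sections
  have key : ∀ x : X, ∃ (B : CommRingCat.{u}) (i : Spec B ⟶ X), IsOpenImmersion i ∧ x ∈ Set.range i ∧
      NonAbH1.HasSectionOver P i := by
    intro x
    obtain ⟨_, _, ⟨hq⟩, z, rfl⟩ := hR₁.1 x
    rename_i S' q
    haveI : IsOpenImmersion q := hR₁.2 hq
    obtain ⟨σ, hσ⟩ := hsec q hq
    obtain ⟨W, hW, hzW, -⟩ := exists_isAffineOpen_mem_and_subset (X := S') (x := z) (U := ⊤) trivial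
    obtain ⟨Q, hQ⟩ := hW.opensRange_fromSpec.ge hzW
    refine ⟨Γ(S', W), hW.fromSpec ≫ q, inferInstance, ⟨Q, ?_⟩, hW.fromSpec ≫ σ, by rw [Category.assoc, hσ]⟩
    show q (hW.fromSpec Q) = _
    rw [hQ]
    rfl
  choose B i hi hx hsx using key
  choose σ hσ using hsx
  let fi : ∀ x, Spec (B x) ⟶ X := i
  have hz : Presieve.ofArrows (fun x => Spec (B x)) fi ∈ Scheme.zariskiPrecoverage X :=
    (Scheme.ofArrows_mem_precoverage_iff _).2 ⟨fun x => ⟨x, hx x⟩, hi⟩
  have hf := Scheme.zariskiPrecoverage_le_fpqcPrecoverage _ hz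
  let s : ∀ x, Over.mk (fi x) ⟶ P := fun x => Over.homMk (σ x) (hσ x)
  -- the cocycle of units
  have hu : ∀ {T : Over X} {i j : X} (x : T ⟶ Over.mk (fi i)) (y : T ⟶ Over.mk (fi j)),
      ∃ c : T ⟶ Red.bc f (Red.diag R ℤ), gv c = uv (dg hps (x ≫ s i) (y ≫ s j)) :=
    fun x y => exists_gm _ (isUnit_uv _)
  choose c hc using @hu
  let Z : PushTors19.Cocycle fi (Red.bc f (Red.diag R ℤ)) :=
    { c := fun {T i j} x y => c x y
      nat := fun q x y => gv_injective (by
        rw [gv_comp, hc, hc, ← uv_comp, dg_comp, Category.assoc, Category.assoc])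
      self := fun {T} {j} x => gv_injective (by rw [hc, dg_self, uv_one, gv_one])
      comp := fun x y z => gv_injective (by rw [gv_mul, hc, hc, hc, ← uv_mul, dg_mul]) }
  haveI : IsAffineHom (Red.bc f (Red.diag R ℤ)).hom := by
    show IsAffineHom (pullback.snd (Red.diag R ℤ).hom f)
    exact MorphismProperty.pullback_snd _ _ (inferInstanceAs (IsAffineHom (Spec.map _)))
  obtain ⟨U⟩ := PushTors19.exists_twisted Z hf
  obtain ⟨b, hb, -⟩ := PushTors19.exists_torsor U hf
  have hb' : NonAbH1.IsTorsorFor Scheme.fppfPrecoverage b := by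
    refine ⟨hb.1, _, Scheme.zariskiPrecoverage_le_fppfPrecoverage _ hz, ?_⟩
    intro S' u hu
    cases hu with
    | mk j =>
      obtain ⟨y, -⟩ := (U.coord_bij (𝟙 (Over.mk (fi j)))).2 1
      exact ⟨y.left, Over.w y⟩
  obtain ⟨τ, hτ⟩ := hpic U.U b hb'
  let τ' : 𝟙_ (Over X) ⟶ U.U := Over.homMk τ hτ
  let bval : ∀ {T : Over X} {i : X}, (T ⟶ Over.mk (fi i)) → (T ⟶ Red.bc f (Red.diag R ℤ)) :=
    fun {T i} x => U.coord x (toUnit T ≫ τ')
  have bval_comp : ∀ {T T' : Over X} {i : X} (q : T' ⟶ T) (x : T ⟶ Over.mk (fi i)),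
      q ≫ bval x = bval (q ≫ x) := fun {T T' i} q x => by
    show q ≫ U.coord x _ = U.coord (q ≫ x) _
    rw [← U.coord_nat, ← Category.assoc, toUnit_unique (q ≫ toUnit T) (toUnit T')]
  have bval_change : ∀ {T : Over X} {i j : X} (x : T ⟶ Over.mk (fi i)) (y : T ⟶ Over.mk (fi j)),
      gv (bval y) = gv (bval x) * uv (dg hps (x ≫ s i) (y ≫ s j)) := fun {T i j} x y => by
    show gv (U.coord y _) = _
    rw [U.coord_change x y, gv_mul]
    exact congrArg _ (hc x y)
  -- glue modulo `lam`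
  let qm := Ideal.Quotient.mk (Ideal.span ({lam} : Set R))
  let sp0 := Spec.map (CommRingCat.ofHom qm)
  let L : Over X := Over.mk (pullback.fst f sp0)
  have hL : lamT f lam L = 0 := by
    show ((pullback.fst f sp0) ≫ f).appTop (inΓ R lam) = 0
    rw [pullback.condition, Scheme.Hom.comp_appTop, ConcreteCategory.comp_apply]
    erw [appTop_inΓ qm lam]
    rw [show qm lam = 0 from Ideal.Quotient.eq_zero_iff_mem.2 (Ideal.mem_span_singleton_self lam), map_zero, map_zero]
  obtain ⟨z, hz'⟩ := exists_glue_family hf (T := L) (Z := Red.bc f (Red.diag R ℤ)) (fun _ x => bval x)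
    (fun r _ x => bval_comp r x)
    (fun {T'} {j j'} q x y => gv_injective (by
      rw [bval_change x y, uv_eq, ← lamT_comp q, hL, map_zero, zero_mul, add_zero, _root_.mul_one]))
  obtain ⟨w, hw⟩ := hunit (isUnit_gv z).unit
  obtain ⟨wpt, hwpt⟩ := exists_gm (f := f) (T := 𝟙_ (Over X)) ((w⁻¹ : Γ(X, ⊤)ˣ) : Γ(X, ⊤)) (w⁻¹).isUnit
  -- correct the local sections
  have hcorr : ∀ j : X, ∃ g : Over.mk (fi j) ⟶ Red.bc f (SekSuwa.G R lam),
      uv g = gv (bval (𝟙 (Over.mk (fi j))) * (toUnit (Over.mk (fi j)) ≫ wpt)) := by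
    intro j
    let V : Over X := Over.mk (fi j)
    let z₀ := bval (𝟙 V) * (toUnit V ≫ wpt)
    let φ := Spec.preimage (fi j ≫ f)
    letI : Algebra R (B j) := φ.hom.toAlgebra
    obtain ⟨d, hd⟩ := (bijective_inΓ (B j)).2 (gv z₀)
    let k : Spec (CommRingCat.of ((B j) ⊗[R] (R ⧸ Ideal.span {lam}))) ⟶ Spec (B j) :=
      Spec.map (CommRingCat.ofHom (Algebra.TensorProduct.includeLeftRingHom :
        (B j) →+* (B j) ⊗[R] (R ⧸ Ideal.span {lam})))
    let k' := Spec.map (CommRingCat.ofHom (Algebra.TensorProduct.includeRight :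
        (R ⧸ Ideal.span {lam}) →ₐ[R] (B j) ⊗[R] (R ⧸ Ideal.span {lam})).toRingHom)
    have hkk : (k ≫ fi j) ≫ f = k' ≫ sp0 := by
      rw [Category.assoc, show fi j ≫ f = Spec.map φ from (Spec.map_preimage _).symm, ← Spec.map_comp, ← Spec.map_comp]
      exact congrArg Spec.map (CommRingCat.hom_ext (RingHom.ext fun r =>
        Algebra.TensorProduct.tmul_one_eq_one_tmul r))
    let W : Over X := Over.mk (k ≫ fi j)
    let K : W ⟶ V := Over.homMk k rfl
    let K' : W ⟶ L := Over.homMk (pullback.lift (k ≫ fi j) k' hkk) (pullback.lift_fst _ _ _)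
    have h1 : gv (K ≫ z₀) = 1 := by
      have e1 : K ≫ bval (𝟙 V) = K' ≫ z := by
        rw [bval_comp, Category.comp_id]
        exact (hz' K' K).symm
      rw [MonObj.comp_mul, gv_mul, e1, ← Category.assoc, toUnit_unique (K ≫ toUnit V) (K' ≫ toUnit L),
        Category.assoc, gv_comp, gv_comp, gv_comp, hwpt, ← map_mul]
      erw [show gv z = (pullback.fst f sp0).appTop (w : Γ(X, ⊤)) from (congrArg Units.val hw).symm]
      erw [← map_mul (pullback.fst f sp0).appTop.hom, Units.mul_inv, map_one, map_one]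
    rw [gv_comp, ← hd] at h1
    erw [appTop_inΓ] at h1
    have h2 : (d - 1) ⊗ₜ[R] (1 : R ⧸ Ideal.span {lam}) = 0 := by
      have := (bijective_inΓ _).1 (h1.trans (map_one _).symm)
      rw [TensorProduct.sub_tmul, sub_eq_zero]
      exact this
    obtain ⟨y, hy⟩ := exists_eq_lam_mul (d - 1) h2
    have hl : lamT f lam V = inΓ (B j) (algebraMap R (B j) lam) := by
      show (fi j ≫ f).appTop (inΓ R lam) = _
      rw [show fi j ≫ f = Spec.map φ from (Spec.map_preimage _).symm]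
      exact appTop_inΓ φ.hom lam
    let y' : Γ(V.left, ⊤) := inΓ (B j) y
    have hval : gv z₀ = 1 + lamT f lam V * y' := by
      rw [← hd, hl, show d = 1 + algebraMap R (B j) lam * y from by linear_combination hy]
      exact (map_add _ _ _).trans (congrArg₂ (· + ·) (map_one _) (map_mul _ _ _))
    obtain ⟨g, hg⟩ := exists_point (f := f) (T := V) y' (hval ▸ isUnit_gv z₀)
    exact ⟨g, hg.trans hval.symm⟩
  choose g hg using hcorr
  let s' : ∀ j, Over.mk (fi j) ⟶ P := fun j => lift (g j) (s j) ≫ a.act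
  -- the corrected sections agree
  have hagree : ∀ {T : Over X} {i j : X} (x : T ⟶ Over.mk (fi i)) (y : T ⟶ Over.mk (fi j)),
      x ≫ s' i = y ≫ s' j := by
    intro T i j x y
    haveI : IsOpenImmersion (fi i) := hi i
    haveI : IsOpenImmersion (fi j) := hi j
    let D : Over X := Over.mk (pullback.fst (fi i) (fi j) ≫ fi i)
    haveI : Flat (D.hom ≫ f) := inferInstanceAs (Flat ((pullback.fst (fi i) (fi j) ≫ fi i) ≫ f))
    let p : D ⟶ Over.mk (fi i) := Over.homMk (pullback.fst _ _) rfl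
    let p' : D ⟶ Over.mk (fi j) := Over.homMk (pullback.snd _ _) pullback.condition.symm
    have hD : p ≫ s' i = p' ≫ s' j := by
      have hg' : (p ≫ g i) * dg hps (p ≫ s i) (p' ≫ s j) = p' ≫ g j := by
        refine uv_injective_of_flat hlam ?_
        rw [uv_mul, uv_comp, uv_comp, hg, hg, ← gv_comp, ← gv_comp, MonObj.comp_mul, MonObj.comp_mul,
          gv_mul, gv_mul, bval_comp, bval_comp, Category.comp_id, Category.comp_id,
          ← Category.assoc, ← Category.assoc, toUnit_unique (p ≫ toUnit _) (p' ≫ toUnit _), bval_change p p']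
        ring
      show p ≫ lift (g i) (s i) ≫ a.act = p' ≫ lift (g j) (s j) ≫ a.act
      rw [comp_act, comp_act, ← hg', mul_act_pt, dg_spec]
    let q : T ⟶ D := Over.homMk (pullback.lift x.left y.left ((Over.w x).trans (Over.w y).symm))
      (by show _ ≫ _ ≫ fi i = _; rw [pullback.lift_fst_assoc]; exact Over.w x)
    have e1 : q ≫ p = x := Over.OverMorphism.ext (pullback.lift_fst _ _ _)
    have e2 : q ≫ p' = y := Over.OverMorphism.ext (pullback.lift_snd _ _ _)
    rw [← e1, ← e2, Category.assoc, Category.assoc, hD]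
  obtain ⟨st, -⟩ := exists_glue_family hf (T := 𝟙_ (Over X)) (Z := P) (fun {_ j} _ x => x ≫ s' j)
    (fun r _ x => (Category.assoc _ _ _).symm) (fun _ x y => hagree x y)
  exact ⟨st.left, Over.w st⟩

end Groth.Agent.SekSuwaTors19
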