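import Groth.Agent.Lib.DiagGL.Points
import Groth.Agent.Lib.TorsorSch25.Basic
import Groth.Prelude.Def_SekSuwa2
import Groth.Prelude.Def_NonAbH2
import Mathlib.AlgebraicGeometry.Morphisms.Flat
import Mathlib.RingTheory.Flat.TorsionFree

/-!
# Points of the group `G^(λ)` over a scheme
-/

set_option autoImplicit false
set_option linter.style.haveILetI false
set_option backward.isDefEq.respectTransparency false
set_option backward.isDefEq.respectTransparency.types false
set_option maxHeartbeats 400000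

universe u

open CategoryTheory CategoryTheory.Limits AlgebraicGeometry MonoidalCategory CartesianMonoidalCategory MonObj

noncomputable section

namespace Groth.Agent.SekSuwaTors19

open Groth.Agent.DiagGL

variable {R : Type u} [CommRing R] {lam : R} {X : Scheme.{u}} {f : X ⟶ Spec (CommRingCat.of R)}

/-- `λ` on a scheme over `X`. -/
def lamT (f : X ⟶ Spec (CommRingCat.of R)) (lam : R) (T : Over X) : Γ(T.left, ⊤) :=
  alg ((Over.map f).obj T) lam

/-- A point of the base change as a point over the base. -/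
def down {T : Over X} (g : T ⟶ Red.bc f (SekSuwa.G R lam)) :
    (Over.map f).obj T ⟶ CoactBr.sp R (SekSuwa.A R lam) :=
  ((Over.mapPullbackAdj f).homEquiv T (SekSuwa.G R lam)).symm g

/-- The coordinate `t` of a point. -/
def tv {T : Over X} (g : T ⟶ Red.bc f (SekSuwa.G R lam)) : Γ(T.left, ⊤) :=
  ev (down g) SekSuwa.A.t

/-- The unit `1 + λ t` of a point. -/
def uv {T : Over X} (g : T ⟶ Red.bc f (SekSuwa.G R lam)) : Γ(T.left, ⊤) :=
  ev (down g) SekSuwa.A.u

theorem uv_eq {T : Over X} (g : T ⟶ Red.bc f (SekSuwa.G R lam)) : uv g = 1 + lamT f lam T * tv g := by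
  rw [uv, SekSuwa.A.u_def, map_add, map_one, map_mul, ev_algebraMap]
  rfl

theorem isUnit_uv {T : Over X} (g : T ⟶ Red.bc f (SekSuwa.G R lam)) : IsUnit (uv g) :=
  SekSuwa.A.isUnit_u.map (ev (down g))

theorem homEquiv_mul {S S' : Scheme.{u}} (ψ : S' ⟶ S) {G : Over S} [GrpObj G] (A : Over S')
    (a b : (Over.map ψ).obj A ⟶ G) :
    (Over.mapPullbackAdj ψ).homEquiv A G (a * b) =
      (Over.mapPullbackAdj ψ).homEquiv A G a * (Over.mapPullbackAdj ψ).homEquiv A G b := by
  simp only [(Over.mapPullbackAdj ψ).homEquiv_unit]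
  rw [← MonObj.comp_mul]
  congr 1
  exact Functor.map_mul (Over.pullback ψ) a b

theorem uv_mul {T : Over X} (g h : T ⟶ Red.bc f (SekSuwa.G R lam)) : uv (g * h) = uv g * uv h := by
  have e : down (g * h) = down g * down h := by
    show ((Over.mapPullbackAdj f).homEquiv T (SekSuwa.G R lam)).symm _ = _
    rw [Equiv.symm_apply_eq]
    refine Eq.trans ?_ (homEquiv_mul f T _ _).symm
    simp only [down, Equiv.apply_symm_apply]
  rw [uv, e]
  exact ev_mul_glike _ _ SekSuwa.A.comul_u

theorem down_comp {T T' : Over X} (q : T' ⟶ T) (g : T ⟶ Red.bc f (SekSuwa.G R lam)) :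
    down (q ≫ g) = (Over.map f).map q ≫ down g :=
  (Over.mapPullbackAdj f).homEquiv_naturality_left_symm q g

theorem uv_comp {T T' : Over X} (q : T' ⟶ T) (g : T ⟶ Red.bc f (SekSuwa.G R lam)) :
    uv (q ≫ g) = q.left.appTop (uv g) := by
  rw [uv, down_comp, ev_comp]
  rfl

theorem lamT_comp {T T' : Over X} (q : T' ⟶ T) : q.left.appTop (lamT f lam T) = lamT f lam T' := by
  show q.left.appTop ((T.hom ≫ f).appTop _) = (T'.hom ≫ f).appTop _
  rw [← Over.w q, Category.assoc, Scheme.Hom.comp_appTop q.left]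
  rfl

/-- The point with a given coordinate. -/
theorem exists_point {T : Over X} (b : Γ(T.left, ⊤)) (hb : IsUnit (1 + lamT f lam T * b)) :
    ∃ g : T ⟶ Red.bc f (SekSuwa.G R lam), uv g = 1 + lamT f lam T * b := by
  letI := (alg ((Over.map f).obj T)).toAlgebra
  obtain ⟨c, hc⟩ := hb.exists_right_inv
  let φ : SekSuwa.A R lam →ₐ[R] Γ(((Over.map f).obj T).left, ⊤) :=
    SekSuwa.A.lift R lam b c (by rw [Algebra.smul_def]; exact hc)
  refine ⟨(Over.mapPullbackAdj f).homEquiv T (SekSuwa.G R lam) (mk φ.toRingHom φ.commutes), ?_⟩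
  rw [uv, down]
  erw [Equiv.symm_apply_apply]
  rw [ev_mk]
  show φ SekSuwa.A.u = _
  rw [SekSuwa.A.u_def, map_add, map_one, map_mul, φ.commutes, SekSuwa.A.lift_t]
  rfl

theorem uv_injective {T : Over X} (hT : ∀ x, lamT f lam T * x = 0 → x = 0)
    {g h : T ⟶ Red.bc f (SekSuwa.G R lam)} (e : uv g = uv h) : g = h := by
  have e₀ := e
  have ht : tv g = tv h := by
    rw [uv_eq, uv_eq, add_right_inj, ← sub_eq_zero, ← mul_sub] at e
    exact sub_eq_zero.1 (hT _ e)
  refine ((Over.mapPullbackAdj f).homEquiv T (SekSuwa.G R lam)).symm.injective (ev_injective fun a => ?_)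
  letI := (alg ((Over.map f).obj T)).toAlgebra
  let φ : SekSuwa.A R lam →ₐ[R] Γ(((Over.map f).obj T).left, ⊤) := ⟨ev (down g), ev_algebraMap _⟩
  let ψ : SekSuwa.A R lam →ₐ[R] Γ(((Over.map f).obj T).left, ⊤) := ⟨ev (down h), ev_algebraMap _⟩
  suffices hs : φ = ψ from DFunLike.congr_fun hs a
  refine SekSuwa.A.algHom_ext ht ?_
  have h1 : φ SekSuwa.A.u * φ SekSuwa.A.inv = 1 := by rw [← map_mul, SekSuwa.A.u_mul_inv, map_one]
  have h2 : ψ SekSuwa.A.u * ψ SekSuwa.A.inv = 1 := by rw [← map_mul, SekSuwa.A.u_mul_inv, map_one]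
  have hu : φ SekSuwa.A.u = ψ SekSuwa.A.u := e₀
  exact (SekSuwa.A.isUnit_u.map φ).mul_left_cancel (h1.trans (hu ▸ h2).symm)

/-- `λ` is a nonzerodivisor on affine schemes flat over the base. -/
theorem lamT_nzd [IsDomain R] (hlam : lam ≠ 0) (T : Over X) [IsAffine T.left] [Flat (T.hom ≫ f)]
    (x : Γ(T.left, ⊤)) (hx : lamT f lam T * x = 0) : x = 0 := by
  have hfl : ((T.hom ≫ f).appTop).hom.Flat :=
    (HasRingHomProperty.iff_of_isAffine (P := @Flat)).1 ‹Flat (T.hom ≫ f)›
  have hiso : ((Scheme.ΓSpecIso (CommRingCat.of R)).inv).hom.Flat :=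
    RingHom.Flat.of_bijective (ConcreteCategory.bijective_of_isIso _)
  have h : (alg ((Over.map f).obj T)).Flat := hiso.comp hfl
  letI : Algebra R Γ(T.left, ⊤) := RingHom.toAlgebra (alg ((Over.map f).obj T) : R →+* Γ(T.left, ⊤))
  haveI : Module.Flat R Γ(T.left, ⊤) := h
  have hs : IsSMulRegular Γ(T.left, ⊤) lam :=
    Module.Flat.isSMulRegular_of_isRegular (IsRegular.of_ne_zero hlam)
  exact hs (show lam • x = lam • 0 by rw [smul_zero, Algebra.smul_def]; exact hx)

section Torsor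

variable {P : Over X} (a : AlgGrp.Action (Red.bc f (SekSuwa.G R lam)) P)

theorem mul_act_pt {T : Over X} (g h : T ⟶ Red.bc f (SekSuwa.G R lam)) (x : T ⟶ P) :
    lift (g * h) x ≫ a.act = lift g (lift h x ≫ a.act) ≫ a.act := by
  have e := congrArg (fun q => lift (lift g h) x ≫ q) a.mul_act
  simpa [Hom.mul_def] using e

theorem comp_act {T T' : Over X} (q : T' ⟶ T) (g : T ⟶ Red.bc f (SekSuwa.G R lam)) (x : T ⟶ P) :
    q ≫ lift g x ≫ a.act = lift (q ≫ g) (q ≫ x) ≫ a.act := by
  rw [← Category.assoc, comp_lift]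

end Torsor

end Groth.Agent.SekSuwaTors19
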