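import Groth.Agent.Lib.SekSuwaTors19.Alg
import Groth.Agent.Lib.SekSuwaTors19.Points
import Mathlib.AlgebraicGeometry.Sites.Fpqc
import Mathlib.AlgebraicGeometry.Morphisms.Flat
import Mathlib.AlgebraicGeometry.Morphisms.Affine

/-!
# Torsors under `G^(λ)` are locally trivial for the Zariski topology
-/

set_option autoImplicit false
set_option linter.style.haveILetI false
set_option backward.isDefEq.respectTransparency false
set_option backward.isDefEq.respectTransparency.types false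
set_option maxHeartbeats 1000000

universe u

open CategoryTheory CategoryTheory.Limits AlgebraicGeometry MonoidalCategory CartesianMonoidalCategory MonObj
open TensorProduct

noncomputable section

namespace Groth.Agent.SekSuwaTors19

variable {R : Type u} [CommRing R] [IsDomain R] {lam : R} {X : Scheme.{u}}
  {f : X ⟶ Spec (CommRingCat.of R)} {P : Over X} {a : AlgGrp.Action (Red.bc f (SekSuwa.G R lam)) P}

/-- Ring elements as functions on the spectrum. -/
abbrev inΓ (C : Type u) [CommRing C] : C →+* Γ(Spec (CommRingCat.of C), ⊤) :=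
  (Scheme.ΓSpecIso (CommRingCat.of C)).inv.hom

theorem appTop_inΓ {C D : Type u} [CommRing C] [CommRing D] (φ : C →+* D) (x : C) :
    (Spec.map (CommRingCat.ofHom φ)).appTop (inΓ C x) = inΓ D (φ x) :=
  (ConcreteCategory.congr_hom (Scheme.ΓSpecIso_inv_naturality (CommRingCat.ofHom φ)) x).symm

theorem bijective_inΓ (C : Type u) [CommRing C] : Function.Bijective (inΓ C) :=
  ConcreteCategory.bijective_of_isIso (Scheme.ΓSpecIso (CommRingCat.of C)).inv

theorem isUnit_appTop_of_range_le {S T : Scheme.{u}} (j : T ⟶ S) (s : Γ(S, ⊤))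
    (h : ∀ t, j t ∈ S.basicOpen s) : IsUnit (j.appTop s) := by
  refine RingedSpace.isUnit_of_isUnit_germ T.toLocallyRingedSpace.toRingedSpace ⊤ (j.appTop s) fun t ht => ?_
  have h1 : t ∈ j ⁻¹ᵁ S.basicOpen s := h t
  rw [Scheme.preimage_basicOpen] at h1
  exact (T.mem_basicOpen _ t (show t ∈ (⊤ : T.Opens) from trivial)).1 h1

/-- A torsor with a section over a faithfully flat affine cover of an affine chart has a section
near every point of the chart. -/
theorem exists_section_near (hlam : lam ≠ 0) [Flat f] (ha : NonAbH1.IsPseudoTorsorSch a)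
    {A B : Type u} [CommRing A] [CommRing B] [Algebra A B] [Module.FaithfullyFlat A B]
    (c : Spec (CommRingCat.of A) ⟶ X) [IsOpenImmersion c]
    (s : Spec (CommRingCat.of B) ⟶ P.left)
    (hs : s ≫ P.hom = Spec.map (CommRingCat.ofHom (algebraMap A B)) ≫ c) (p : PrimeSpectrum A) :
    ∃ (V : Scheme.{u}) (i : V ⟶ X), IsOpenImmersion i ∧ c p ∈ Set.range i ∧ NonAbH1.HasSectionOver P i := by
  let π := Spec.map (CommRingCat.ofHom (algebraMap A B))
  haveI : Flat π := (HasRingHomProperty.Spec_iff (P := @Flat)).2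
    (RingHom.flat_algebraMap_iff.2 inferInstance)
  haveI : Surjective π := ⟨PrimeSpectrum.comap_surjective_of_faithfullyFlat (A := A) (B := B)⟩
  haveI : Flat (c ≫ f) := inferInstance
  let T1 : Over X := Over.mk (π ≫ c)
  let s1 : T1 ⟶ P := Over.homMk s hs
  let a2 := Spec.map (CommRingCat.ofHom (algebraMap A (B ⊗[A] B)))
  let T2 : Over X := Over.mk (a2 ≫ c)
  have hq1 : Spec.map (CommRingCat.ofHom (Algebra.TensorProduct.includeLeftRingHom : B →+* B ⊗[A] B)) ≫ π = a2 := by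
    rw [← Spec.map_comp]; rfl
  have hq2 : Spec.map (CommRingCat.ofHom
      (Algebra.TensorProduct.includeRight : B →ₐ[A] B ⊗[A] B).toRingHom) ≫ π = a2 := by
    rw [← Spec.map_comp, ← CommRingCat.ofHom_comp]
    exact congrArg (fun w => Spec.map (CommRingCat.ofHom w))
      (RingHom.ext fun x => (Algebra.TensorProduct.includeRight : B →ₐ[A] B ⊗[A] B).commutes x)
  let q1 : T2 ⟶ T1 := Over.homMk (Spec.map (CommRingCat.ofHom Algebra.TensorProduct.includeLeftRingHom))
    ((Category.assoc _ _ _).symm.trans (congrArg (· ≫ c) hq1))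
  let q2 : T2 ⟶ T1 := Over.homMk (Spec.map (CommRingCat.ofHom
      (Algebra.TensorProduct.includeRight : B →ₐ[A] B ⊗[A] B).toRingHom))
    ((Category.assoc _ _ _).symm.trans (congrArg (· ≫ c) hq2))
  obtain ⟨g, hg, -⟩ := TorsorSch25.existsUnique_smul ha (q2 ≫ s1) (q1 ≫ s1)
  -- the cocycle identity
  let T3 : Over X := Over.mk (Spec.map (CommRingCat.ofHom (algebraMap A (B ⊗[A] (B ⊗[A] B)))) ≫ c)
  let r : (B ⊗[A] B →ₐ[A] B ⊗[A] (B ⊗[A] B)) → (T3 ⟶ T2) := fun e =>
    Over.homMk (Spec.map (CommRingCat.ofHom e.toRingHom)) (by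
      show Spec.map _ ≫ a2 ≫ c = _
      rw [← Category.assoc, ← Spec.map_comp, ← CommRingCat.ofHom_comp]
      exact congrArg (fun w => Spec.map (CommRingCat.ofHom w) ≫ c) (RingHom.ext fun x => e.commutes x))
  have hr : ∀ (e e' : B ⊗[A] B →ₐ[A] B ⊗[A] (B ⊗[A] B)) (j j' : B →ₐ[A] B ⊗[A] B),
      e.comp j = e'.comp j' → Spec.map (CommRingCat.ofHom e.toRingHom) ≫ Spec.map (CommRingCat.ofHom j.toRingHom) =
        Spec.map (CommRingCat.ofHom e'.toRingHom) ≫ Spec.map (CommRingCat.ofHom j'.toRingHom) := by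
    intro e e' j j' h
    rw [← Spec.map_comp, ← Spec.map_comp, ← CommRingCat.ofHom_comp, ← CommRingCat.ofHom_comp]
    exact congrArg (fun w => Spec.map (CommRingCat.ofHom w)) (congrArg AlgHom.toRingHom h)
  have hA : r EtPic3.e02 ≫ q1 = r EtPic3.e01 ≫ q1 := Over.OverMorphism.ext (hr _ _
    (Algebra.TensorProduct.includeLeft) (Algebra.TensorProduct.includeLeft) (AlgHom.ext fun x => by simp [Algebra.TensorProduct.one_def]))
  have hB : r EtPic3.e01 ≫ q2 = r EtPic3.e12 ≫ q1 := Over.OverMorphism.ext (hr _ _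
    (Algebra.TensorProduct.includeRight) (Algebra.TensorProduct.includeLeft) (AlgHom.ext fun x => by simp))
  have hC : r EtPic3.e12 ≫ q2 = r EtPic3.e02 ≫ q2 := Over.OverMorphism.ext (hr _ _
    (Algebra.TensorProduct.includeRight) (Algebra.TensorProduct.includeRight) (AlgHom.ext fun x => by simp))
  have hcoc : r EtPic3.e02 ≫ g = (r EtPic3.e01 ≫ g) * (r EtPic3.e12 ≫ g) := by
    refine TorsorSch25.smul_cancel (a := a) ha (x := (r EtPic3.e02 ≫ q2) ≫ s1) ?_
    rw [mul_act_pt]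
    have h02 := congrArg (fun w => r EtPic3.e02 ≫ w) hg
    have h01 := congrArg (fun w => r EtPic3.e01 ≫ w) hg
    have h12 := congrArg (fun w => r EtPic3.e12 ≫ w) hg
    rw [comp_act] at h02 h01 h12
    simp only [← Category.assoc] at h02 h01 h12
    rw [h02, hA, ← hC, h12, ← hB, h01]
  -- the unit
  obtain ⟨u₀, hu₀⟩ := (bijective_inΓ (B ⊗[A] B)).2 (uv g)
  obtain ⟨t₀, ht₀⟩ := (bijective_inΓ (B ⊗[A] B)).2 (tv g)
  obtain ⟨lamA, hlamA⟩ := (bijective_inΓ A).2 (lamT f lam (Over.mk c))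
  have hlam2 : lamT f lam T2 = inΓ (B ⊗[A] B) (algebraMap A (B ⊗[A] B) lamA) := by
    rw [← appTop_inΓ (algebraMap A (B ⊗[A] B)) lamA, hlamA]
    exact (lamT_comp (Over.homMk a2 rfl : T2 ⟶ Over.mk c)).symm
  have huu : IsUnit u₀ := by
    obtain ⟨v, hv⟩ := (isUnit_uv g).exists_right_inv
    obtain ⟨v₀, rfl⟩ := (bijective_inΓ (B ⊗[A] B)).2 v
    rw [← hu₀] at hv
    exact IsUnit.of_mul_eq_one _ ((bijective_inΓ _).1 ((map_mul _ _ _).trans (hv.trans (map_one _).symm)))
  have hu : (huu.unit : B ⊗[A] B) = 1 + algebraMap A _ lamA * t₀ := by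
    refine (bijective_inΓ _).1 ?_
    rw [IsUnit.unit_spec, hu₀, map_add, map_one, map_mul, ht₀, ← hlam2]
    exact uv_eq g
  have hev : ∀ e : B ⊗[A] B →ₐ[A] B ⊗[A] (B ⊗[A] B), uv (r e ≫ g) = inΓ (B ⊗[A] (B ⊗[A] B)) (e u₀) := fun e => by
    rw [uv_comp, ← hu₀]
    exact appTop_inΓ e.toRingHom u₀
  have hco : EtPic3.e02 (huu.unit : B ⊗[A] B) =
      EtPic3.e01 (huu.unit : B ⊗[A] B) * EtPic3.e12 (huu.unit : B ⊗[A] B) := by
    refine (bijective_inΓ _).1 ?_
    rw [IsUnit.unit_spec, map_mul, ← hev, ← hev, ← hev, hcoc, uv_mul]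
  obtain ⟨e, c₀, y, m, hep, hce, hme, hm, hmu⟩ := exists_coboundary lamA t₀ huu.unit hu
    (EtPic3.span_twisted_eq_top huu.unit hco) p
  rw [IsUnit.unit_spec] at hmu
  -- shrink
  let V : (Spec (CommRingCat.of A)).Opens := (Spec (CommRingCat.of A)).basicOpen (inΓ A e)
  refine ⟨V, V.ι ≫ c, inferInstance, ⟨⟨p, ?_⟩, rfl⟩, ?_⟩
  · show p ∈ (Spec (CommRingCat.of A)).basicOpen _
    rw [basicOpen_eq_of_affine]
    exact hep
  have hV : IsAffineOpen V := (isAffineOpen_top _).basicOpen _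
  haveI : IsAffine (V : Scheme.{u}) := hV
  haveI : IsAffine ((π ⁻¹ᵁ V : (Spec (CommRingCat.of B)).Opens) : Scheme.{u}) := hV.preimage π
  let jW := (π ⁻¹ᵁ V).ι
  let T' : Over X := Over.mk (jW ≫ π ≫ c)
  let j : T' ⟶ T1 := Over.homMk jW rfl
  let ρ : B →+* Γ(T'.left, ⊤) := jW.appTop.hom.comp (inΓ B)
  have hρe : IsUnit (ρ (algebraMap A B e)) := by
    show IsUnit (jW.appTop (inΓ B (algebraMap A B e)))
    rw [← appTop_inΓ]
    refine isUnit_appTop_of_range_le jW _ fun t => ?_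
    rw [← Scheme.preimage_basicOpen_top]
    exact t.2
  have hρm : IsUnit (ρ m) := isUnit_of_dvd_unit (map_dvd ρ hme) hρe
  have hρc : IsUnit (ρ (algebraMap A B c₀)) :=
    isUnit_of_dvd_unit (map_dvd ρ (map_dvd (algebraMap A B) hce)) hρe
  obtain ⟨d, hd⟩ := hρc.exists_right_inv
  have hlam' : lamT f lam T' = ρ (algebraMap A B lamA) := by
    show _ = jW.appTop (inΓ B (algebraMap A B lamA))
    rw [← appTop_inΓ, hlamA]
    exact (lamT_comp j).symm.trans (congrArg jW.appTop (lamT_comp (Over.homMk π rfl : T1 ⟶ Over.mk c)).symm)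
  have hmd : ρ m * d = 1 + lamT f lam T' * (ρ y * d) := by
    rw [hm, map_add, map_mul, add_mul, hd, hlam']
    ring
  obtain ⟨N, hN⟩ := (hρm.mul (IsUnit.of_mul_eq_one _ (mul_comm d _ |>.trans hd) : IsUnit d)).exists_right_inv
  have hN' : N = 1 + lamT f lam T' * (-(ρ y * d * N)) := by
    linear_combination hN - N * hmd
  obtain ⟨h0, hh0⟩ := exists_point (f := f) (T := T') (-(ρ y * d * N))
    (by rw [← hN']; exact IsUnit.of_mul_eq_one _ (mul_comm N _ |>.trans hN))
  rw [← hN'] at hh0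
  let s' : T' ⟶ P := lift h0 (j ≫ s1) ≫ a.act
  -- descend
  let π' := π ∣_ V
  have hπ' : π' ≫ V.ι = jW ≫ π := morphismRestrict_ι π V
  haveI : Flat π' := IsZariskiLocalAtTarget.restrict ‹Flat π› V
  haveI : Surjective π' := IsZariskiLocalAtTarget.restrict ‹Surjective π› V
  have hglue : pullback.fst π' π' ≫ s'.left = pullback.snd π' π' ≫ s'.left := by
    let k0 := pullback.fst π' π'
    let k1 := pullback.snd π' π'
    let T'' : Over X := Over.mk (k0 ≫ jW ≫ π ≫ c)
    haveI : IsAffine T''.left := inferInstanceAs (IsAffine (pullback π' π'))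
    haveI : Flat (T''.hom ≫ f) := inferInstanceAs (Flat ((k0 ≫ jW ≫ π ≫ c) ≫ f))
    have hw : (k0 ≫ jW) ≫ π = (k1 ≫ jW) ≫ π := by
      rw [Category.assoc, Category.assoc, ← hπ', ← Category.assoc, pullback.condition, Category.assoc]
    let k : pullback π' π' ⟶ Spec (CommRingCat.of (B ⊗[A] B)) :=
      pullback.lift (k0 ≫ jW) (k1 ≫ jW) hw ≫ (pullbackSpecIso A B B).hom
    have hk1 : k ≫ q1.left = k0 ≫ jW := by
      show (_ ≫ _) ≫ Spec.map _ = _
      rw [Category.assoc, pullbackSpecIso_hom_fst, pullback.lift_fst]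
    have hk2 : k ≫ q2.left = k1 ≫ jW := by
      show (_ ≫ _) ≫ Spec.map _ = _
      rw [Category.assoc]
      erw [pullbackSpecIso_hom_snd]
      rw [pullback.lift_snd]
    let K : T'' ⟶ T2 := Over.homMk k (by
      show k ≫ a2 ≫ c = k0 ≫ jW ≫ π ≫ c
      rw [← hq1]
      simp only [Category.assoc]
      exact (Category.assoc k _ _).symm.trans ((congrArg (· ≫ π ≫ c) hk1).trans (by simp only [Category.assoc])))
    let K0 : T'' ⟶ T' := Over.homMk k0 rfl
    let K1 : T'' ⟶ T' := Over.homMk k1 (by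
      show k1 ≫ jW ≫ π ≫ c = k0 ≫ jW ≫ π ≫ c
      simp only [← Category.assoc]
      rw [← hw])
    have e1 : K ≫ q1 = K0 ≫ j := Over.OverMorphism.ext hk1
    have e2 : K ≫ q2 = K1 ≫ j := Over.OverMorphism.ext hk2
    let κ : B ⊗[A] B →+* Γ(pullback π' π', ⊤) := k.appTop.hom.comp (inΓ _)
    have hκ1 : ∀ x : B, κ (x ⊗ₜ[A] 1) = k0.appTop (ρ x) := fun x => by
      show k.appTop (inΓ (B ⊗[A] B) (Algebra.TensorProduct.includeLeftRingHom x)) = k0.appTop (jW.appTop (inΓ B x))
      rw [← appTop_inΓ, ← ConcreteCategory.comp_apply, ← Scheme.Hom.comp_appTop,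
        ← ConcreteCategory.comp_apply jW.appTop, ← Scheme.Hom.comp_appTop]
      exact congrArg (fun w : _ ⟶ Spec (CommRingCat.of B) => w.appTop (inΓ B x)) hk1
    have hκ2 : ∀ x : B, κ (1 ⊗ₜ[A] x) = k1.appTop (ρ x) := fun x => by
      show k.appTop (inΓ (B ⊗[A] B) ((Algebra.TensorProduct.includeRight : B →ₐ[A] B ⊗[A] B).toRingHom x)) =
        k1.appTop (jW.appTop (inΓ B x))
      rw [← appTop_inΓ, ← ConcreteCategory.comp_apply, ← Scheme.Hom.comp_appTop,
        ← ConcreteCategory.comp_apply jW.appTop, ← Scheme.Hom.comp_appTop]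
      exact congrArg (fun w : _ ⟶ Spec (CommRingCat.of B) => w.appTop (inΓ B x)) hk2
    have hd01 : k0.appTop d = k1.appTop d := by
      have h0' := congrArg k0.appTop hd
      have h1' := congrArg k1.appTop hd
      rw [map_mul, map_one, ← hκ1, Algebra.TensorProduct.tmul_one_eq_one_tmul] at h0'
      rw [map_mul, map_one, ← hκ2] at h1'
      exact left_inv_eq_right_inv ((mul_comm _ _).trans h0') h1'
    have hmm : k0.appTop (ρ m) = κ u₀ * k1.appTop (ρ m) := by
      rw [← hκ1, hmu, map_mul, hκ2]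
    have hkey : (K0 ≫ h0) * (K ≫ g) = K1 ≫ h0 := by
      refine uv_injective (lamT_nzd hlam T'') ?_
      rw [uv_mul, uv_comp, uv_comp, uv_comp, hh0, ← hu₀]
      show k0.appTop N * κ u₀ = k1.appTop N
      have n0 := congrArg k0.appTop hN
      have n1 := congrArg k1.appTop hN
      rw [map_mul, map_mul, map_one, hd01, hmm] at n0
      rw [map_mul, map_mul, map_one] at n1
      linear_combination (k1.appTop N) * n0 - (k0.appTop N * κ u₀) * n1
    have : K0 ≫ s' = K1 ≫ s' := by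
      show K0 ≫ lift h0 (j ≫ s1) ≫ a.act = K1 ≫ lift h0 (j ≫ s1) ≫ a.act
      rw [comp_act, comp_act, ← Category.assoc K0, ← e1, ← Category.assoc K1, ← e2, ← hkey, mul_act_pt]
      have := congrArg (fun w => K ≫ w) hg
      rw [comp_act] at this
      simp only [Category.assoc]
      rw [this]
    exact congrArg (fun w => w.left) this
  refine ⟨EffectiveEpi.desc π' s'.left fun g₁ g₂ hgg => ?_, ?_⟩
  · rw [← pullback.lift_fst g₁ g₂ hgg, Category.assoc, hglue, ← Category.assoc, pullback.lift_snd]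
  · rw [← cancel_epi π', ← Category.assoc, EffectiveEpi.fac, ← Category.assoc, hπ', Category.assoc]
    exact Over.w s'

/-- Torsors under `G^(λ)` over a flat scheme are Zariski locally trivial. -/
theorem isLocallyTrivial_zariski (hlam : lam ≠ 0) [Flat f] (ha : NonAbH1.IsTorsorFor Scheme.fppfPrecoverage a) :
    NonAbH1.IsTorsorFor Scheme.zariskiPrecoverage a := by
  obtain ⟨R₀, hR, hsec⟩ := ha.2
  have key : ∀ x : X, ∃ (V : Scheme.{u}) (i : V ⟶ X), IsOpenImmersion i ∧ x ∈ Set.range i ∧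
      NonAbH1.HasSectionOver P i := by
    intro x
    obtain ⟨_, _, ⟨hq⟩, z, rfl⟩ := hR.1 x
    rename_i S' q
    obtain ⟨hqf, hqp⟩ := hR.2 hq
    haveI : Flat q := hqf
    haveI : LocallyOfFinitePresentation q := hqp
    obtain ⟨σ, hσ⟩ := hsec q hq
    obtain ⟨V₀, hV₀, hxV, -⟩ := exists_isAffineOpen_mem_and_subset (X := X) (x := q z) (U := ⊤) trivial
    obtain ⟨W₀, hW₀, hzW, hWV⟩ := exists_isAffineOpen_mem_and_subset (X := S') (x := z) (U := q ⁻¹ᵁ V₀) hxV
    obtain ⟨b, hb, hzb⟩ := IsAffineOpen.exists_basicOpen_le (U := V₀) hV₀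
      (V := ⟨q '' W₀, q.isOpenMap _ W₀.isOpen⟩) ⟨q z, ⟨z, hzW, rfl⟩⟩ hxV
    let D := X.basicOpen b
    have hD : IsAffineOpen D := hV₀.basicOpen b
    let W := W₀ ⊓ q ⁻¹ᵁ D
    have hW : IsAffineOpen W := by
      have : W = S'.basicOpen (q.appLE V₀ W₀ hWV b) := by
        rw [Scheme.basicOpen_appLE]
      rw [this]; exact hW₀.basicOpen _
    have hle : W ≤ q ⁻¹ᵁ D := inf_le_right
    letI : Algebra Γ(X, D) Γ(S', W) := (q.appLE D W hle).hom.toAlgebra
    haveI : Module.Flat Γ(X, D) Γ(S', W) := HasRingHomProperty.appLE (P := @Flat) q hqf ⟨D, hD⟩ ⟨W, hW⟩ hle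
    haveI : Module.FaithfullyFlat Γ(X, D) Γ(S', W) := by
      refine Module.FaithfullyFlat.of_comap_surjective fun P' => ?_
      obtain ⟨w, hw, hwe⟩ : hD.fromSpec P' ∈ q '' W₀ := hb (hD.opensRange_fromSpec.le ⟨P', rfl⟩)
      have hwD : w ∈ W := ⟨hw, by
        show q w ∈ D
        rw [hwe]
        exact hD.opensRange_fromSpec.le ⟨P', rfl⟩⟩
      obtain ⟨Q, hQ⟩ := hW.opensRange_fromSpec.ge hwD
      refine ⟨Q, hD.fromSpec.isOpenEmbedding.injective ?_⟩
      rw [← hwe, ← hQ]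
      exact (ConcreteCategory.congr_hom (congrArg (fun φ => φ.base)
        (IsAffineOpen.SpecMap_appLE_fromSpec q hD hW hle)) Q)
    obtain ⟨Q, hQ⟩ := hD.opensRange_fromSpec.ge hzb
    obtain ⟨V', i', hi', hi'', hi'''⟩ :=
      exists_section_near hlam ha.1 (B := Γ(S', W)) hD.fromSpec (hW.fromSpec ≫ σ) (by
      rw [Category.assoc, hσ]
      exact (IsAffineOpen.SpecMap_appLE_fromSpec q hD hW hle).symm) Q
    exact ⟨V', i', hi', (show hD.fromSpec Q = q z from hQ) ▸ hi'', hi'''⟩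
  choose V i hi hx hsx using key
  refine ⟨ha.1, Presieve.ofArrows V i, ?_, fun T g hg => ?_⟩
  · exact (Scheme.ofArrows_mem_precoverage_iff _).2 ⟨fun x => ⟨x, hx x⟩, hi⟩
  · obtain ⟨x⟩ := hg
    exact hsx x

end Groth.Agent.SekSuwaTors19
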